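import Groth.Agent.SmoothTorsor.AffineData

/-!
# Formal smoothness of spaces can be checked on one chart
-/

set_option autoImplicit false
set_option backward.isDefEq.respectTransparency false
set_option backward.isDefEq.respectTransparency.types false

universe u

open CategoryTheory CategoryTheory.Limits AlgebraicGeometry Opposite AlgSp

namespace Groth.Agent.SmoothTorsor

open Groth.Agent.AlgSpLib Groth.Agent.AlgSpDec

variable {S : Scheme.{u}} {F G : Sp S} {f : F ⟶ G}

/-- An affine local lift. -/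
structure Piece (sq : InfSq f) {U V : Over S} (a : (yon S).obj U ⟶ F) (h : U ⟶ V) where
  Ut : U.left.Opens
  Vt : V.left.Opens
  hU : IsAffineOpen Ut
  hV : IsAffineOpen Vt
  le : Ut ≤ h.left ⁻¹ᵁ Vt
  W : Over S
  affine : IsAffine W.left
  φ : W ⟶ sq.ptT'
  etale : Etale φ.left
  m : W ⟶ Over.mk (Ut.ι ≫ U.hom)
  res : IsRes sq φ ((yon S).map (m ≫ (Over.homMk Ut.ι rfl : Over.mk (Ut.ι ≫ U.hom) ⟶ U)) ≫ a)
  bot : ((yon S).map (m ≫ (Over.homMk Ut.ι rfl : Over.mk (Ut.ι ≫ U.hom) ⟶ U)) ≫ a) ≫ f =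
    (yon S).map φ ≫ sq.bot

theorem exists_piece_through (sq : InfSq f) {U V : Over S} (a : (yon S).obj U ⟶ F) (h : U ⟶ V)
    (ha : RepWith @Etale a) (ha' : RepWith @Surjective a) (hF : IsFormallySmoothMor (a ≫ f))
    (t : sq.ptT'.left) : ∃ (p : Piece sq a h) (w : p.W.left), p.φ.left w = t := by
  obtain ⟨ι, W, φ, het, hsurj, hlift⟩ := exists_local_lift ha ha' hF sq
  obtain ⟨i, w, rfl⟩ := hsurj t
  obtain ⟨x, hx, hx'⟩ := hlift i
  have hP := ha.1.isPullback x
  let P := ha.1.pullback x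
  let ps : P ⟶ W i := ha.1.snd x
  have : Etale ps.left := ha.2 x _ _ hP
  have : Surjective ps.left := ha'.2 x _ _ hP
  have : Etale (φ i).left := het i
  obtain ⟨m, hm⟩ := (yon S).map_surjective (ha.1.fst x)
  obtain ⟨p, rfl⟩ := ps.left.surjective w
  obtain ⟨Vt, hVt, hpV, -⟩ := exists_isAffineOpen_mem_and_subset (X := V.left)
    (x := h.left (m.left p)) (U := ⊤) trivial
  obtain ⟨Ut, hUt, hpU, hle⟩ := exists_isAffineOpen_mem_and_subset (X := U.left)
    (x := m.left p) (U := h.left ⁻¹ᵁ Vt) hpV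
  obtain ⟨C, hC, hpC, hCle⟩ := exists_isAffineOpen_mem_and_subset (X := P.left)
    (x := p) (U := m.left ⁻¹ᵁ Ut) hpU
  let e : Over.mk (C.ι ≫ P.hom) ⟶ P := Over.homMk C.ι rfl
  let j : Over.mk (Ut.ι ≫ U.hom) ⟶ U := Over.homMk Ut.ι rfl
  have hfac : IsOpenImmersion.lift Ut.ι (C.ι ≫ m.left) (by
      rintro _ ⟨z, rfl⟩
      rw [Scheme.Opens.range_ι]
      exact hCle z.2) ≫ Ut.ι = C.ι ≫ m.left := IsOpenImmersion.lift_fac _ _ _
  let m' : Over.mk (C.ι ≫ P.hom) ⟶ Over.mk (Ut.ι ≫ U.hom) := Over.homMk _ (by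
    refine ((Category.assoc _ _ _).symm.trans (congrArg (· ≫ U.hom) hfac)).trans ?_
    exact (Category.assoc _ _ _).trans (congrArg (C.ι ≫ ·) (Over.w m)))
  have hm' : (yon S).map (m' ≫ j) ≫ a = (yon S).map (e ≫ ps) ≫ x := by
    rw [show m' ≫ j = e ≫ m from Over.OverMorphism.ext hfac, Functor.map_comp, Category.assoc, hm,
      hP.w, Functor.map_comp_assoc]
  refine ⟨{
    Ut := Ut, Vt := Vt, hU := hUt, hV := hVt, le := hle
    W := Over.mk (C.ι ≫ P.hom), affine := hC, φ := (e ≫ ps) ≫ φ i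
    etale := inferInstanceAs (Etale ((C.ι ≫ ps.left) ≫ (φ i).left))
    m := m'
    res := by rw [hm']; exact hx.precomp _
    bot := by rw [hm', Category.assoc, hx', ← Functor.map_comp_assoc] }, (⟨p, hpC⟩ : C), ?_⟩
  rfl

theorem isRes_sigma {sq : InfSq f} {ι : Type u} {W : ι → Over S} {φ : ∀ i, W i ⟶ sq.ptT'}
    {σ : sigmaOver W ⟶ sq.ptT'} (hσ : ∀ i, sigmaι W i ≫ σ = φ i)
    {x : (yon S).obj (sigmaOver W) ⟶ F} (hx : ∀ i, IsRes sq (φ i) ((yon S).map (sigmaι W i) ≫ x)) :
    IsRes sq σ x := fun D s z z₁ hz => by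
  have hR : Sieve.ofArrows _ (sigmaι W) ∈ J S (sigmaOver W) := by
    refine mem_J_of_openCover (sigmaOpenCover fun i => (W i).left) _ fun i => ?_
    let e : Over.mk ((sigmaOpenCover fun i => (W i).left).f i ≫ (sigmaOver W).hom) ⟶ W i :=
      Over.homMk (𝟙 (W i).left) (by
        change 𝟙 _ ≫ (W i).hom = Sigma.ι (fun i => (W i).left) i ≫ Sigma.desc _
        rw [Sigma.ι_desc, Category.id_comp])
    convert (Sieve.ofArrows _ (sigmaι W)).downward_closed (Sieve.ofArrows_mk _ _ i) e using 1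
    apply Over.OverMorphism.ext
    change (sigmaOpenCover fun i => (W i).left).f i = 𝟙 _ ≫ Sigma.ι (fun i => (W i).left) i
    rw [Category.id_comp]
    rfl
  refine hom_ext_of_covering _ _ ((J S).pullback_stable z hR) fun Y ψ hψ => ?_
  obtain ⟨i, k, hk⟩ := (Sieve.mem_ofArrows_iff _ _ (ψ ≫ z)).1 hψ
  refine hom_ext_of_affines _ _ fun C p => ?_
  let P₀ : Over.mk (p ≫ Y.hom) ⟶ Y := Over.homMk p rfl
  have e := hx i C _ (P₀ ≫ k) (P₀ ≫ ψ ≫ z₁) (by
    rw [Category.assoc, Category.assoc, Category.assoc, ← hσ i, ← reassoc_of% hk, hz])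
  rw [← Functor.map_comp_assoc, ← Functor.map_comp_assoc, ← Functor.map_comp_assoc, Category.assoc]
  rw [← Functor.map_comp_assoc, Category.assoc, ← hk] at e
  simpa only [Category.assoc, Functor.map_comp] using e

set_option maxHeartbeats 1600000 in
/-- Formal smoothness of a chart gives formal smoothness. -/
theorem isFormallySmoothMor_of_chart {U V : Over S} {a : (yon S).obj U ⟶ F} {b : (yon S).obj V ⟶ G}
    {h : U ⟶ V} (ha : RepWith @Etale a) (ha' : RepWith @Surjective a) (hb : RepWith @Etale b)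
    (w : a ≫ f = (yon S).map h ≫ b) (hh : MoreMor.IsFormallySmoothHom h.left) :
    IsFormallySmoothMor f := fun sq => by
  classical
  have : CompactSpace sq.ptT'.left := inferInstanceAs (CompactSpace (Spec (.of sq.A)))
  have hF : IsFormallySmoothMor (a ≫ f) := by
    rw [w]
    exact isFormallySmoothMor_comp (isFormallySmoothMor_yon_map hh)
      ((isFormallyEtaleMor_iff _).1 ((formal_of_repWith b).2.1 hb)).1
  choose p pw hpw using exists_piece_through sq a h ha ha' hF
  have (t : sq.ptT'.left) : Etale (p t).φ.left := (p t).etale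
  obtain ⟨s, hs⟩ := isCompact_univ.elim_finite_subcover
    (fun t => Set.range (p t).φ.left) (fun t => (p t).φ.left.isOpenMap.isOpen_range)
    fun t _ => Set.mem_iUnion.2 ⟨t, pw t, hpw t⟩
  let ι : Type u := {t : sq.ptT'.left // t ∈ s}
  let Us : ι → Over S := fun i => Over.mk ((p i.1).Ut.ι ≫ U.hom)
  let Vs : ι → Over S := fun i => Over.mk ((p i.1).Vt.ι ≫ V.hom)
  let Ws : ι → Over S := fun i => (p i.1).W
  let jU : ∀ i, Us i ⟶ U := fun i => Over.homMk (p i.1).Ut.ι rfl
  let jV : ∀ i, Vs i ⟶ V := fun i => Over.homMk (p i.1).Vt.ι rfl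
  let hi : ∀ i, Us i ⟶ Vs i := fun i => Over.homMk (h.left.resLE _ _ (p i.1).le) (by
    change h.left.resLE _ _ _ ≫ (p i.1).Vt.ι ≫ V.hom = (p i.1).Ut.ι ≫ U.hom
    rw [Scheme.Hom.resLE_comp_ι_assoc, Over.w h])
  let φ : sigmaOver Ws ⟶ sq.ptT' := Over.homMk (Sigma.desc fun i => (p i.1).φ.left)
    (Sigma.hom_ext _ _ fun i => by
      rw [← Category.assoc, Sigma.ι_desc, Over.w (p i.1).φ]
      exact (Sigma.ι_desc (fun i => (Ws i).hom) i).symm)
  let ηU : sigmaOver Us ⟶ U := Over.homMk (Sigma.desc fun i => (jU i).left)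
    (Sigma.hom_ext _ _ fun i => by
      rw [← Category.assoc, Sigma.ι_desc, Over.w (jU i)]
      exact (Sigma.ι_desc (fun i => (Us i).hom) i).symm)
  let ηV : sigmaOver Vs ⟶ V := Over.homMk (Sigma.desc fun i => (jV i).left)
    (Sigma.hom_ext _ _ fun i => by
      rw [← Category.assoc, Sigma.ι_desc, Over.w (jV i)]
      exact (Sigma.ι_desc (fun i => (Vs i).hom) i).symm)
  let h' : sigmaOver Us ⟶ sigmaOver Vs :=
    Over.homMk (Sigma.desc fun i => (hi i).left ≫ (sigmaι Vs i).left)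
      (Sigma.hom_ext _ _ fun i => by
        rw [← Category.assoc, Sigma.ι_desc, Category.assoc, Over.w (sigmaι Vs i), Over.w (hi i)]
        exact (Sigma.ι_desc (fun i => (Us i).hom) i).symm)
  let m : sigmaOver Ws ⟶ sigmaOver Us :=
    Over.homMk (Sigma.desc fun i => (p i.1).m.left ≫ (sigmaι Us i).left)
      (Sigma.hom_ext _ _ fun i => by
        rw [← Category.assoc, Sigma.ι_desc, Category.assoc, Over.w (sigmaι Us i), Over.w (p i.1).m]
        exact (Sigma.ι_desc (fun i => (Ws i).hom) i).symm)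
  have hφ : ∀ i, sigmaι Ws i ≫ φ = (p i.1).φ := fun i =>
    Over.OverMorphism.ext (by
      change Sigma.ι (fun i => (Ws i).left) i ≫ Sigma.desc _ = _
      exact Sigma.ι_desc _ i)
  have hηU : ∀ i, sigmaι Us i ≫ ηU = jU i := fun i =>
    Over.OverMorphism.ext (Sigma.ι_desc (fun i => (jU i).left) i)
  have hηV : ∀ i, sigmaι Vs i ≫ ηV = jV i := fun i =>
    Over.OverMorphism.ext (Sigma.ι_desc (fun i => (jV i).left) i)
  have hh'ι : ∀ i, sigmaι Us i ≫ h' = hi i ≫ sigmaι Vs i := fun i =>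
    Over.OverMorphism.ext (Sigma.ι_desc (fun i => (hi i).left ≫ (sigmaι Vs i).left) i)
  have hmι : ∀ i, sigmaι Ws i ≫ m = (p i.1).m ≫ sigmaι Us i := fun i =>
    Over.OverMorphism.ext (by
      change Sigma.ι (fun i => (Ws i).left) i ≫ Sigma.desc _ = _
      exact Sigma.ι_desc _ i)
  have : ∀ i, IsAffine (Ws i).left := fun i => (p i.1).affine
  have : ∀ i, IsAffine (Us i).left := fun i => (p i.1).hU
  have : ∀ i, IsAffine (Vs i).left := fun i => (p i.1).hV
  have : IsAffine (sigmaOver Ws).left := inferInstanceAs (IsAffine (∐ fun i => (Ws i).left))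
  have : IsAffine (sigmaOver Us).left := inferInstanceAs (IsAffine (∐ fun i => (Us i).left))
  have : IsAffine (sigmaOver Vs).left := inferInstanceAs (IsAffine (∐ fun i => (Vs i).left))
  have : Etale φ.left := IsZariskiLocalAtSource.sigmaDesc (P := @Etale) fun i => (p i.1).etale
  have : Surjective φ.left := ⟨fun t => by
    obtain ⟨t₀, ht₀, w₀, hw₀⟩ := Set.mem_iUnion₂.1 (hs (Set.mem_univ t))
    exact ⟨(sigmaι Ws ⟨t₀, ht₀⟩).left w₀, by
      rw [← Scheme.Hom.comp_apply, ← Over.comp_left, hφ]; exact hw₀⟩⟩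
  have hηUe : Etale ηU.left := IsZariskiLocalAtSource.sigmaDesc (P := @Etale) fun i =>
    inferInstanceAs (Etale (p i.1).Ut.ι)
  have hηVe : Etale ηV.left := IsZariskiLocalAtSource.sigmaDesc (P := @Etale) fun i =>
    inferInstanceAs (Etale (p i.1).Vt.ι)
  have hcomm : h' ≫ ηV = ηU ≫ h := Over.OverMorphism.ext (Sigma.hom_ext _ _ fun i => by
    change (sigmaι Us i).left ≫ h'.left ≫ ηV.left = (sigmaι Us i).left ≫ ηU.left ≫ h.left
    have e : sigmaι Us i ≫ h' ≫ ηV = hi i ≫ jV i := by rw [← Category.assoc, hh'ι, Category.assoc, hηV]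
    have e' : sigmaι Us i ≫ ηU ≫ h = jU i ≫ h := by rw [← Category.assoc, hηU]
    refine (congrArg CommaMorphism.left e).trans (Eq.trans ?_ (congrArg CommaMorphism.left e').symm)
    exact Scheme.Hom.resLE_comp_ι _ _)
  have heV := (formal_of_repWith ((yon S).map ηV)).2.1 ((repWith_yon_map_iff _ _).2 hηVe)
  have heU := (formal_of_repWith ((yon S).map ηU)).2.1 ((repWith_yon_map_iff _ _).2 hηUe)
  have hh' : IsFormallySmoothMor ((yon S).map h') :=
    isFormallySmoothMor_of_comp (b := (yon S).map ηV) ((isFormallyEtaleMor_iff _).1 heV).2 (by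
      rw [← Functor.map_comp, hcomm, Functor.map_comp]
      exact isFormallySmoothMor_comp ((isFormallyEtaleMor_iff _).1 heU).1
        (isFormallySmoothMor_yon_map hh))
  have key : ∀ i, (yon S).map (sigmaι Ws i) ≫ (yon S).map m ≫ (yon S).map ηU ≫ a =
      (yon S).map ((p i.1).m ≫ jU i) ≫ a := fun i => by
    rw [← Functor.map_comp_assoc, ← Functor.map_comp_assoc, hmι, Category.assoc, hηU]
  refine hasLift_of_affine_data sq h' hh' ((yon S).map ηU ≫ a)
    (isFormallyEtaleMor_comp heU ((formal_of_repWith a).2.1 ha))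
    ((yon S).map ηV ≫ b)
    (isFormallyUnramifiedMor_comp ((isFormallyEtaleMor_iff _).1 heV).2
      ((isFormallyEtaleMor_iff _).1 ((formal_of_repWith b).2.1 hb)).2)
    (by rw [Category.assoc, w, ← Functor.map_comp_assoc, ← hcomm, Functor.map_comp_assoc]) φ m
    (isRes_sigma hφ fun i => by rw [key]; exact (p i.1).res)
    (hom_ext_sigma Ws fun i => by
      rw [← Category.assoc, key, ← Functor.map_comp_assoc, hφ]
      exact (p i.1).bot)

end Groth.Agent.SmoothTorsor
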