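import Groth.Agent.SmoothTorsor.Lifts
import Groth.Agent.AlgSpLib.InfCharts

/-!
# An affine chart with a local lift gives a lift
-/

set_option autoImplicit false
set_option backward.isDefEq.respectTransparency false
set_option backward.isDefEq.respectTransparency.types false

universe u

open CategoryTheory CategoryTheory.Limits AlgebraicGeometry Opposite AlgSp

namespace Groth.Agent.SmoothTorsor

open Groth.Agent.AlgSpLib

variable {S : Scheme.{u}} {F G : Sp S} {f : F ⟶ G}

theorem isFormallySmoothHom_of_mor {U V : Over S} {h : U ⟶ V}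
    (hh : IsFormallySmoothMor ((yon S).map h)) : MoreMor.IsFormallySmoothHom h.left := by
  intro A _ I hI a b w
  obtain ⟨t, β, ht, hβ, hw⟩ := exists_infSq_yon h I hI a b w
  obtain ⟨l, hl₁, hl₂⟩ := hh
    { A := A, I := I, sq_zero := hI, str := b ≫ V.hom, top := (yon S).map t, bot := (yon S).map β,
      comm := hw }
  obtain ⟨m, rfl⟩ := (yon S).map_surjective l
  refine ⟨m.left, ?_, ?_⟩
  · rw [← ht]
    exact congrArg CommaMorphism.left ((yon S).map_injective (((yon S).map_comp _ _).trans hl₁))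
  · exact (congrArg CommaMorphism.left
      ((yon S).map_injective (((yon S).map_comp _ _).trans hl₂))).trans hβ

theorem isFormallySmoothHom_iso_comp {X Y Z : Scheme.{u}} (e : X ≅ Y) {g : Y ⟶ Z}
    (hg : MoreMor.IsFormallySmoothHom g) : MoreMor.IsFormallySmoothHom (e.hom ≫ g) := by
  intro A _ I hI a b w
  obtain ⟨l, hl₁, hl₂⟩ := hg A I hI (a ≫ e.hom) b (w.trans (Category.assoc _ _ _).symm)
  exact ⟨l ≫ e.inv, by rw [← Category.assoc, hl₁, Category.assoc, e.hom_inv_id, Category.comp_id],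
    by rw [Category.assoc, e.inv_hom_id_assoc, hl₂]⟩

theorem isFormallySmoothMor_yon_map {U V : Over S} {h : U ⟶ V} (hh : MoreMor.IsFormallySmoothHom h.left) :
    IsFormallySmoothMor ((yon S).map h) := by
  intro sq
  obtain ⟨t, ht⟩ := (yon S).map_surjective sq.top
  obtain ⟨β, hβ⟩ := (yon S).map_surjective sq.bot
  have hc : t ≫ h = sq.j ≫ β := (yon S).map_injective (by
    rw [Functor.map_comp, Functor.map_comp, ht, hβ]; exact sq.comm)
  obtain ⟨l, hl₁, hl₂⟩ := hh sq.A sq.I sq.sq_zero t.left β.left (congrArg CommaMorphism.left hc).symm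
  let m : sq.ptT' ⟶ U := Over.homMk l (by
    rw [← Over.w h, ← Category.assoc, hl₂]; exact Over.w β)
  refine ⟨(yon S).map m, ?_, ?_⟩
  · rw [← ht, ← Functor.map_comp]; exact congrArg _ (Over.OverMorphism.ext hl₁)
  · rw [← hβ, ← Functor.map_comp]; exact congrArg _ (Over.OverMorphism.ext hl₂)

set_option maxHeartbeats 1600000 in
theorem hasLift_of_algebra_data (sq : InfSq f) (B : Type u) [CommRing B] [Algebra sq.A B]
    [Module.FaithfullyFlat sq.A B] [Algebra.Etale sq.A B] {U' V' : Over S} [IsAffine U'.left]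
    [IsAffine V'.left] (h' : U' ⟶ V') (hh' : IsFormallySmoothMor ((yon S).map h'))
    (a' : (yon S).obj U' ⟶ F) (ha' : IsFormallyEtaleMor a') (b' : (yon S).obj V' ⟶ G)
    (hb' : IsFormallyUnramifiedMor b') (w : a' ≫ f = (yon S).map h' ≫ b') (m : pt sq B ⟶ U')
    (hres : IsRes sq (ptStr sq B) ((yon S).map m ≫ a'))
    (hm : ((yon S).map m ≫ a') ≫ f = (yon S).map (ptStr sq B) ≫ sq.bot) : sq.HasLift := by
  let v := m ≫ h'
  let O := pullback h' v
  let p₁ : O ⟶ U' := pullback.fst h' v
  let p₂ : O ⟶ pt sq B := pullback.snd h' v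
  have hO : p₁ ≫ h' = p₂ ≫ m ≫ h' := pullback.condition
  have : IsAffine ((Over.forget S).obj U') := ‹IsAffine U'.left›
  have : IsAffine ((Over.forget S).obj V') := ‹IsAffine V'.left›
  have : IsAffine ((Over.forget S).obj (pt sq B)) := inferInstanceAs (IsAffine (Spec (.of B)))
  have : IsAffine O.left := .of_isIso
    ((IsPullback.of_hasPullback h' v).map (Over.forget S)).isoPullback.hom
  let Q : Type u := Γ(O.left, ⊤)
  obtain ⟨χ, hχ⟩ := Spec.map_surjective (O.left.isoSpec.inv ≫ p₂.left :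
    Spec Γ(O.left, ⊤) ⟶ Spec (.of B))
  let _ : Algebra B Q := χ.hom.toAlgebra
  let _ : Algebra sq.A Q := (χ.hom.comp (algebraMap sq.A B)).toAlgebra
  have : IsScalarTower sq.A B Q := IsScalarTower.of_algebraMap_eq fun _ => rfl
  have : Algebra.FormallySmooth B Q := MorLib.formallySmooth_of_isFormallySmoothHom_SpecMap
    (φ := χ) (by
      rw [hχ]
      exact isFormallySmoothHom_iso_comp O.left.isoSpec.symm (isFormallySmoothHom_of_mor
        (isFormallySmoothMor_of_isPullback ((IsPullback.of_hasPullback h' v).map (yon S)) hh')))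
  let eQ : pt sq Q ≅ O := Over.isoMk O.left.isoSpec.symm (by
    change O.left.isoSpec.inv ≫ O.hom =
      Spec.map (CommRingCat.ofHom (χ.hom.comp (algebraMap sq.A B))) ≫ sq.str
    rw [CommRingCat.ofHom_comp, Spec.map_comp, CommRingCat.ofHom_hom, hχ, ← Over.w p₂,
      Category.assoc, Category.assoc]
    rfl)
  have hQ : eQ.hom ≫ p₂ = ptMap sq (IsScalarTower.toAlgHom sq.A B Q) :=
    Over.OverMorphism.ext hχ.symm
  let x : (ptFun sq).pt Q := ⟨(yon S).map (eQ.hom ≫ p₁) ≫ a', by
    rw [Category.assoc, w, ← Functor.map_comp_assoc, Category.assoc, hO, reassoc_of% hQ,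
      Functor.map_comp_assoc, Functor.map_comp_assoc, ← w, ← Category.assoc _ a' f, hm,
      ← Functor.map_comp_assoc, ptMap_str]⟩
  let s : pt sq B ⟶ O := pullback.lift m (𝟙 _) (Category.id_comp _).symm
  obtain ⟨σ₀, hσ₀⟩ := Spec.map_surjective ((s ≫ eQ.inv).left : Spec (.of B) ⟶ Spec Γ(O.left, ⊤))
  have hσχ : χ ≫ σ₀ = 𝟙 _ := by
    apply Spec.map_injective
    rw [Spec.map_comp, hσ₀, Spec.map_id]
    have e : (s ≫ eQ.inv) ≫ eQ.hom ≫ p₂ = 𝟙 _ := by
      rw [Category.assoc, eQ.inv_hom_id_assoc]; exact pullback.lift_snd _ _ _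
    rw [hQ] at e
    exact congrArg CommaMorphism.left e
  let σ : Q →ₐ[B] B := ⟨σ₀.hom, fun b => congrArg (fun g => g.hom b) hσχ⟩
  have hσ : ptMap sq (σ.restrictScalars sq.A) ≫ eQ.hom ≫ p₁ = m := by
    rw [show ptMap sq (σ.restrictScalars sq.A) = s ≫ eQ.inv from Over.OverMorphism.ext hσ₀,
      Category.assoc, eQ.inv_hom_id_assoc]
    exact pullback.lift_fst _ _ _
  refine hasLift_of_chartAlg sq B Q x
    (fun {P C} _ _ _ _ π hπ hsq g₀ g hg y hy => ?_) σ ?_
  · let top := ptMap sq g₀ ≫ eQ.hom ≫ p₁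
    obtain ⟨l, ⟨hl₁, hl₂⟩, hlu⟩ := existsUnique_lift sq π hπ hsq ha' ((yon S).map top) y.1 (by
      rw [Functor.map_comp, Category.assoc]
      exact (congrArg Subtype.val hy).symm)
    obtain ⟨l₀, rfl⟩ := (yon S).map_surjective l
    have hl₁' : ptMap sq π ≫ l₀ = top :=
      (yon S).map_injective (((yon S).map_comp _ _).trans hl₁)
    have hh : l₀ ≫ h' = ptMap sq g ≫ m ≫ h' := by
      apply (yon S).map_injective
      refine lift_unique sq π hπ hsq hb' _ _ ?_ ?_
      · rw [← Functor.map_comp, ← Functor.map_comp, reassoc_of% hl₁']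
        simp only [top, Category.assoc]
        rw [hO, reassoc_of% hQ, ← Category.assoc, ptMap_comp, ← hg, ← ptMap_comp, Category.assoc]
      · rw [Functor.map_comp, Category.assoc, ← w, ← Category.assoc, hl₂, y.2, Functor.map_comp,
          Functor.map_comp, Category.assoc, Category.assoc, ← w, ← Category.assoc _ a' f, hm,
          ← Functor.map_comp_assoc, ptMap_str]
    let k : pt sq P ⟶ O := pullback.lift l₀ (ptMap sq g) hh
    have hk₁ : k ≫ p₁ = l₀ := pullback.lift_fst _ _ _
    have hk₂ : k ≫ p₂ = ptMap sq g := pullback.lift_snd _ _ _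
    obtain ⟨η, hη⟩ := Spec.map_surjective ((k ≫ eQ.inv).left : Spec (.of P) ⟶ Spec Γ(O.left, ⊤))
    have hηχ : χ ≫ η = CommRingCat.ofHom g.toRingHom := by
      apply Spec.map_injective
      rw [Spec.map_comp, hη]
      have e : (k ≫ eQ.inv) ≫ eQ.hom ≫ p₂ = ptMap sq g := by
        rw [Category.assoc, eQ.inv_hom_id_assoc, hk₂]
      rw [hQ] at e
      exact congrArg CommaMorphism.left e
    let h : Q →ₐ[sq.A] P := ⟨η.hom, fun a =>
      (congrArg (fun r => r.hom (algebraMap sq.A B a)) hηχ).trans (g.commutes a)⟩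
    have hh' : ptMap sq h ≫ eQ.hom = k := by
      rw [show ptMap sq h = k ≫ eQ.inv from Over.OverMorphism.ext hη, Category.assoc,
        eQ.inv_hom_id, Category.comp_id]
    refine ⟨h, ⟨AlgHom.ext fun b => congrArg (fun r => r.hom b) hηχ, ?_, Subtype.ext ?_⟩, ?_⟩
    · have e : ptMap sq (π.comp h) = ptMap sq g₀ := by
        rw [← cancel_mono eQ.hom, ← ptMap_comp, Category.assoc, hh']
        apply pullback.hom_ext
        · rw [Category.assoc, Category.assoc]
          exact (congrArg (_ ≫ ·) hk₁).trans hl₁'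
        · rw [Category.assoc, Category.assoc]
          refine (congrArg (_ ≫ ·) hk₂).trans ?_
          rw [ptMap_comp, hg, ← ptMap_comp]
          exact congrArg (_ ≫ ·) hQ.symm
      exact AlgHom.ext fun q =>
        congrArg (fun r => r.hom q) (Spec.map_injective (congrArg CommaMorphism.left e))
    · change (yon S).map (ptMap sq h) ≫ (yon S).map (eQ.hom ≫ p₁) ≫ a' = y.1
      rw [← Functor.map_comp_assoc, reassoc_of% hh', hk₁]
      exact hl₂
    · rintro h₂ ⟨hb₂, hc₂, he₂⟩
      have e₁ : ptMap sq h₂ ≫ eQ.hom ≫ p₁ = l₀ := (yon S).map_injective (hlu _ ⟨by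
        rw [← Functor.map_comp, ← Category.assoc, ptMap_comp, hc₂], by
        rw [Functor.map_comp, Category.assoc]
        exact congrArg Subtype.val he₂⟩)
      have e : ptMap sq h₂ = ptMap sq h := by
        rw [← cancel_mono eQ.hom, hh']
        apply pullback.hom_ext
        · rw [Category.assoc]
          exact e₁.trans hk₁.symm
        · rw [Category.assoc]
          exact ((congrArg (_ ≫ ·) hQ).trans ((ptMap_comp sq _ _).trans (congrArg _ hb₂))).trans hk₂.symm
      exact AlgHom.ext fun q =>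
        congrArg (fun r => r.hom q) (Spec.map_injective (congrArg CommaMorphism.left e))
  · change IsRes sq (ptStr sq B)
      ((yon S).map (ptMap sq (σ.restrictScalars sq.A)) ≫ (yon S).map (eQ.hom ≫ p₁) ≫ a')
    rw [← Functor.map_comp_assoc, hσ]
    exact hres

/-- An affine chart with a local lift on an etale cover gives a lift. -/
theorem hasLift_of_affine_data (sq : InfSq f) {U' V' W : Over S} [IsAffine U'.left] [IsAffine V'.left]
    [IsAffine W.left] (h' : U' ⟶ V') (hh' : IsFormallySmoothMor ((yon S).map h'))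
    (a' : (yon S).obj U' ⟶ F) (ha' : IsFormallyEtaleMor a') (b' : (yon S).obj V' ⟶ G)
    (hb' : IsFormallyUnramifiedMor b') (w : a' ≫ f = (yon S).map h' ≫ b') (φ : W ⟶ sq.ptT')
    [Etale φ.left] [Surjective φ.left] (m : W ⟶ U') (hres : IsRes sq φ ((yon S).map m ≫ a'))
    (hm : ((yon S).map m ≫ a') ≫ f = (yon S).map φ ≫ sq.bot) : sq.HasLift := by
  obtain ⟨ψ, hψ⟩ := Spec.map_surjective (W.left.isoSpec.inv ≫ φ.left :
    Spec Γ(W.left, ⊤) ⟶ Spec (.of sq.A))
  let _ : Algebra sq.A Γ(W.left, ⊤) := ψ.hom.toAlgebra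
  let eB : pt sq Γ(W.left, ⊤) ≅ W := Over.isoMk W.left.isoSpec.symm (by
    change W.left.isoSpec.inv ≫ W.hom = Spec.map ψ ≫ sq.str
    rw [hψ, ← Over.w φ, Category.assoc]
    rfl)
  have hstr : ptStr sq Γ(W.left, ⊤) = eB.hom ≫ φ := Over.OverMorphism.ext hψ
  have he : Etale (Spec.map ψ) := by rw [hψ]; infer_instance
  have hs : Surjective (Spec.map ψ) := by rw [hψ]; infer_instance
  have : Algebra.Etale sq.A Γ(W.left, ⊤) :=
    RingHom.etale_algebraMap.1 ((HasRingHomProperty.Spec_iff (P := @Etale)).1 he)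
  have : Module.FaithfullyFlat sq.A Γ(W.left, ⊤) :=
    Module.FaithfullyFlat.of_comap_surjective hs.surj
  refine hasLift_of_algebra_data sq Γ(W.left, ⊤) h' hh' a' ha' b' hb' w (eB.hom ≫ m) ?_ ?_
  · rw [hstr, Functor.map_comp_assoc]
    exact hres.precomp eB.hom
  · rw [hstr, Functor.map_comp_assoc, Category.assoc, hm, ← Functor.map_comp_assoc]

end Groth.Agent.SmoothTorsor
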