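import Groth.Agent.MorLib.SqZeroSection
import Groth.Agent.DescLib.ModDesc.Equivalence
import Groth.Agent.DescLib.Amitsur
import Groth.Agent.CAlgUI.DescentProj
import Mathlib.RingTheory.Smooth.Basic
import Mathlib.RingTheory.Flat.FaithfullyFlat.Algebra

/-!
# Descent of infinitesimal lifts along a faithfully flat algebra

A set valued functor of `A`-algebras with a chart `η` by a formally smooth `B`-algebra `Q`, the chart
being formally etale over the functor, has lifts along `A → A ⧸ I` which agree on `B ⊗ B`.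
-/

set_option autoImplicit false
set_option backward.isDefEq.respectTransparency false
set_option backward.isDefEq.respectTransparency.types false

universe v u

open TensorProduct

namespace Groth.Agent.SmoothTorsor

/-- A set valued functor on `A`-algebras. -/
structure PtFun (A : Type u) [CommRing A] where
  pt : ∀ (P : Type u) [CommRing P] [Algebra A P], Type v
  map : ∀ {P P' : Type u} [CommRing P] [Algebra A P] [CommRing P'] [Algebra A P'], (P →ₐ[A] P') → pt P → pt P'
  map_comp : ∀ {P P' P'' : Type u} [CommRing P] [Algebra A P] [CommRing P'] [Algebra A P'] [CommRing P'']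
    [Algebra A P''] (f : P →ₐ[A] P') (g : P' →ₐ[A] P'') (x : pt P), map g (map f x) = map (g.comp f) x

variable {A : Type u} [CommRing A]

/-- A chart of a functor. -/
structure Chart (F : PtFun.{v} A) (B Q : Type u) [CommRing B] [Algebra A B] [CommRing Q] [Algebra A Q]
    [Algebra B Q] [IsScalarTower A B Q] where
  η : ∀ {P : Type u} [CommRing P] [Algebra A P], (Q →ₐ[A] P) → F.pt P
  natural : ∀ {P P' : Type u} [CommRing P] [Algebra A P] [CommRing P'] [Algebra A P'] (f : P →ₐ[A] P')
    (h : Q →ₐ[A] P), F.map f (η h) = η (f.comp h)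
  lift : ∀ {P C : Type u} [CommRing P] [Algebra A P] [CommRing C] [Algebra A C] (π : P →ₐ[A] C),
    Function.Surjective π → (∀ x y, π x = 0 → π y = 0 → x * y = 0) →
    ∀ (g₀ : Q →ₐ[A] C) (g : B →ₐ[A] P), π.comp g = g₀.comp (IsScalarTower.toAlgHom A B Q) →
    ∀ x : F.pt P, F.map π x = η g₀ →
    ∃! h : Q →ₐ[A] P, h.comp (IsScalarTower.toAlgHom A B Q) = g ∧ π.comp h = g₀ ∧ η h = x

variable {F : PtFun.{v} A} (I : Ideal A) {B Q : Type u} [CommRing B] [Algebra A B] [CommRing Q]
  [Algebra A Q] [Algebra B Q] [IsScalarTower A B Q]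
  (g₀ : Q →ₐ[B] B ⧸ I.map (algebraMap A B))

lemma hom_unique (c : Chart F B Q) {P C : Type u} [CommRing P] [Algebra A P] [CommRing C] [Algebra A C]
    {π : P →ₐ[A] C} (hπ : Function.Surjective π) (hsq : ∀ x y, π x = 0 → π y = 0 → x * y = 0)
    {L R : Q →ₐ[A] P}
    (hb : L.comp (IsScalarTower.toAlgHom A B Q) = R.comp (IsScalarTower.toAlgHom A B Q))
    (h2 : ∀ q, π (L q) = π (R q)) (h3 : c.η L = c.η R) : L = R := by
  obtain ⟨h₀, -, huniq⟩ := c.lift π hπ hsq (π.comp R) (R.comp (IsScalarTower.toAlgHom A B Q))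
    (AlgHom.comp_assoc _ _ _).symm (c.η R) (c.natural π R)
  exact (huniq L ⟨hb, AlgHom.ext h2, h3⟩).trans (huniq R ⟨rfl, rfl, rfl⟩).symm

/-- `b ↦ b ⊗ 1` modulo `I`. -/
noncomputable def incL : (B ⧸ I.map (algebraMap A B)) →ₐ[A] B ⊗[A] (B ⧸ I.map (algebraMap A B)) :=
  Ideal.Quotient.liftₐ _
    (Algebra.TensorProduct.includeLeft : B →ₐ[A] B ⊗[A] (B ⧸ I.map (algebraMap A B))) fun x hx => by
    revert x
    show I.map (algebraMap A B) ≤ RingHom.ker _
    rw [Ideal.map_le_iff_le_comap]
    intro a ha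
    rw [Ideal.mem_comap, RingHom.mem_ker]
    refine (AlgHom.commutes _ a).trans ?_
    rw [← (Algebra.TensorProduct.includeRight :
      (B ⧸ I.map (algebraMap A B)) →ₐ[A] B ⊗[A] (B ⧸ I.map (algebraMap A B))).commutes a,
      IsScalarTower.algebraMap_apply A B (B ⧸ I.map (algebraMap A B)), Ideal.Quotient.algebraMap_eq,
      Ideal.Quotient.eq_zero_iff_mem.mpr (Ideal.mem_map_of_mem _ ha), map_zero]

lemma incL_mk (b : B) : incL I (Ideal.Quotient.mk _ b) = b ⊗ₜ 1 := rfl

lemma sqZero_of_map {P₁ P₂ : Type u} [CommRing P₁] [CommRing P₂] {G : Type*} [FunLike G P₁ P₂]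
    [RingHomClass G P₁ P₂] {f : G} {J : Ideal P₁} {K : Ideal P₂} (hK : K = J.map f) (hJ : J ^ 2 = ⊥)
    {x y : P₂} (hx : x ∈ K) (hy : y ∈ K) : x * y = 0 := by
  have h := Ideal.mul_mem_mul hx hy
  rwa [← pow_two, hK, ← Ideal.map_pow, hJ, Ideal.map_bot, Ideal.mem_bot] at h

/-- The second order neighbourhood of the chart. -/
abbrev SS : Type u := Q ⧸ (RingHom.ker g₀.toRingHom) ^ 2

/-- Its augmentation. -/
noncomputable def piS : SS I g₀ →ₐ[B] B ⧸ I.map (algebraMap A B) :=
  Ideal.Quotient.liftₐ _ g₀ fun _ hx => Ideal.pow_le_self two_ne_zero hx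

lemma piS_mk (q : Q) : piS I g₀ (Ideal.Quotient.mk _ q) = g₀ q := rfl

lemma piS_surjective : Function.Surjective (piS I g₀) := fun x => by
  obtain ⟨b, rfl⟩ := Ideal.Quotient.mk_surjective x
  exact ⟨algebraMap B _ b, (piS I g₀).commutes b⟩

lemma piS_mul_eq_zero (x y : SS I g₀) (hx : piS I g₀ x = 0) (hy : piS I g₀ y = 0) : x * y = 0 := by
  obtain ⟨x, rfl⟩ := Ideal.Quotient.mk_surjective x
  obtain ⟨y, rfl⟩ := Ideal.Quotient.mk_surjective y
  rw [← map_mul, Ideal.Quotient.eq_zero_iff_mem, pow_two]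
  exact Ideal.mul_mem_mul hx hy

/-- The augmentation of the base changed neighbourhood. -/
noncomputable def piT : B ⊗[A] SS I g₀ →ₐ[A] B ⊗[A] (B ⧸ I.map (algebraMap A B)) :=
  Algebra.TensorProduct.map (AlgHom.id A B) ((piS I g₀).restrictScalars A)

lemma piT_surjective : Function.Surjective (piT I g₀) :=
  TensorProduct.map_surjective Function.surjective_id (piS_surjective I g₀)

lemma piT_mul_eq_zero (x y : B ⊗[A] SS I g₀) (hx : piT I g₀ x = 0) (hy : piT I g₀ y = 0) :
    x * y = 0 := by
  have hk : RingHom.ker (piT I g₀) =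
      (RingHom.ker ((piS I g₀).restrictScalars A)).map
        (Algebra.TensorProduct.includeRight : SS I g₀ →ₐ[A] B ⊗[A] SS I g₀) :=
    Algebra.TensorProduct.lTensor_ker _ (piS_surjective I g₀)
  have h2 : RingHom.ker ((piS I g₀).restrictScalars A) ^ 2 = ⊥ := by
    exact (pow_two _).trans (le_bot_iff.1 (Ideal.mul_le.2 fun a ha b hb =>
      piS_mul_eq_zero I g₀ a b ha hb))
  exact sqZero_of_map hk h2 hx hy

/-- The chart point given by the neighbourhood. -/
noncomputable def taut : Q →ₐ[A] SS I g₀ := Ideal.Quotient.mkₐ A _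

section Coaction

variable (c : Chart F B Q)
  (hcompat : c.η ((incL I).comp (g₀.restrictScalars A)) =
    c.η ((Algebra.TensorProduct.includeRight : _ →ₐ[A] B ⊗[A] (B ⧸ I.map (algebraMap A B))).comp
      (g₀.restrictScalars A)))

include hcompat in
lemma existsUnique_hom :
    ∃! h : Q →ₐ[A] B ⊗[A] SS I g₀,
      h.comp (IsScalarTower.toAlgHom A B Q) = Algebra.TensorProduct.includeLeft ∧
      (piT I g₀).comp h = (incL I).comp (g₀.restrictScalars A) ∧
      c.η h = F.map Algebra.TensorProduct.includeRight (c.η (taut I g₀)) := by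
  refine c.lift (piT I g₀) (piT_surjective I g₀) (piT_mul_eq_zero I g₀) _ _ ?_ _ ?_
  · refine AlgHom.ext fun b => ?_
    show piT I g₀ (b ⊗ₜ 1) = incL I (g₀ (algebraMap B Q b))
    rw [g₀.commutes, Ideal.Quotient.algebraMap_eq, incL_mk]
    simp [piT]
  · rw [c.natural, c.natural, hcompat]
    refine congrArg c.η (AlgHom.ext fun q => ?_)
    exact congrArg (fun z => (1 : B) ⊗ₜ[A] z) (piS_mk I g₀ q)

/-- The coaction. -/
noncomputable def rho : SS I g₀ →ₐ[A] B ⊗[A] SS I g₀ :=
  Ideal.Quotient.liftₐ _ (existsUnique_hom I g₀ c hcompat).choose (by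
    obtain ⟨-, h2, -⟩ := (existsUnique_hom I g₀ c hcompat).choose_spec.1
    set h := (existsUnique_hom I g₀ c hcompat).choose
    intro q hq
    have hJ : ∀ a ∈ RingHom.ker g₀.toRingHom, piT I g₀ (h a) = 0 := fun a ha => by
      rw [← AlgHom.comp_apply, h2]
      show incL I (g₀ a) = 0
      rw [show g₀ a = 0 from ha, map_zero]
    rw [pow_two] at hq
    induction hq using Submodule.mul_induction_on' with
    | mem_mul_mem m hm n hn => rw [map_mul]; exact piT_mul_eq_zero I g₀ _ _ (hJ m hm) (hJ n hn)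
    | add a _ b _ ha hb => rw [map_add, ha, hb, add_zero])

lemma rho_spec :
    ((rho I g₀ c hcompat).comp (taut I g₀)).comp (IsScalarTower.toAlgHom A B Q) =
        Algebra.TensorProduct.includeLeft ∧
      (piT I g₀).comp ((rho I g₀ c hcompat).comp (taut I g₀)) = (incL I).comp (g₀.restrictScalars A) ∧
      c.η ((rho I g₀ c hcompat).comp (taut I g₀)) =
        F.map Algebra.TensorProduct.includeRight (c.η (taut I g₀)) :=
  (existsUnique_hom I g₀ c hcompat).choose_spec.1

lemma rho_algebraMap (b : B) : rho I g₀ c hcompat (algebraMap B _ b) = b ⊗ₜ 1 :=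
  DFunLike.congr_fun (rho_spec I g₀ c hcompat).1 b

lemma rho_piT (x : SS I g₀) :
    piT I g₀ (rho I g₀ c hcompat x) = incL I (piS I g₀ x) := by
  obtain ⟨q, rfl⟩ := Ideal.Quotient.mk_surjective x
  exact DFunLike.congr_fun (rho_spec I g₀ c hcompat).2.1 q

/-- The coaction, linear over `B`. -/
noncomputable def rhoL : SS I g₀ →ₗ[B] B ⊗[A] SS I g₀ where
  toFun := rho I g₀ c hcompat
  map_add' := map_add _
  map_smul' b x := by
    refine (congrArg (rho I g₀ c hcompat) (Algebra.smul_def b x)).trans ?_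
    refine (map_mul _ _ _).trans ((congrArg (· * _) (rho_algebraMap I g₀ c hcompat b)).trans ?_)
    exact (Algebra.smul_def b (rho I g₀ c hcompat x)).symm

/-- Multiplication. -/
noncomputable def mult : B ⊗[A] SS I g₀ →ₐ[A] SS I g₀ :=
  Algebra.TensorProduct.lift (IsScalarTower.toAlgHom A B _) (AlgHom.id A _) fun _ _ => Commute.all _ _

lemma mult_rho (x : SS I g₀) : mult I g₀ (rho I g₀ c hcompat x) = x := by
  obtain ⟨h1, h2, h3⟩ := rho_spec I g₀ c hcompat
  obtain ⟨h₀, -, huniq⟩ := c.lift ((piS I g₀).restrictScalars A) (piS_surjective I g₀)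
    (piS_mul_eq_zero I g₀) (g₀.restrictScalars A) (IsScalarTower.toAlgHom A B (SS I g₀))
    (AlgHom.ext fun b => by
      show piS I g₀ (algebraMap B _ b) = g₀ (algebraMap B Q b)
      rw [AlgHom.commutes, AlgHom.commutes])
    (c.η (taut I g₀)) (c.natural _ _)
  have e1 : (mult I g₀).comp ((rho I g₀ c hcompat).comp (taut I g₀)) = h₀ := by
    refine huniq _ ⟨?_, AlgHom.ext fun q => ?_, ?_⟩
    · rw [AlgHom.comp_assoc, h1]
      refine AlgHom.ext fun b => ?_
      simp [mult]
    · have key : ∀ z : B ⊗[A] SS I g₀, piS I g₀ (mult I g₀ z) =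
          Algebra.TensorProduct.lift (IsScalarTower.toAlgHom A B (B ⧸ I.map (algebraMap A B)))
            (AlgHom.id A _) (fun _ _ => Commute.all _ _) (piT I g₀ z) := fun z => by
        induction z using TensorProduct.induction_on with
        | zero => simp only [map_zero]
        | tmul b s => simp [mult, piT]
        | add p q hp hq => simp only [map_add, hp, hq]
      show piS I g₀ (mult I g₀ _) = g₀ q
      rw [key]
      refine (congrArg _ (DFunLike.congr_fun h2 q)).trans ?_
      show Algebra.TensorProduct.lift _ _ _ (incL I (g₀ q)) = g₀ q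
      obtain ⟨b, hb⟩ := Ideal.Quotient.mk_surjective (g₀ q)
      rw [← hb, incL_mk]
      simp
    · rw [← c.natural, h3, F.map_comp, c.natural]
      refine congrArg c.η (AlgHom.ext fun q => ?_)
      simp [mult]
  have e2 : taut I g₀ = h₀ :=
    huniq _ ⟨AlgHom.ext fun b => rfl, AlgHom.ext fun q => piS_mk I g₀ q, rfl⟩
  obtain ⟨q, rfl⟩ := Ideal.Quotient.mk_surjective x
  exact DFunLike.congr_fun (e1.trans e2.symm) q

lemma coassoc : DescLib.ModDesc.Coassoc ((rhoL I g₀ c hcompat).restrictScalars A) := by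
  obtain ⟨h1, h2, h3⟩ := rho_spec I g₀ c hcompat
  have hk : RingHom.ker (Algebra.TensorProduct.map (AlgHom.id A B) (piT I g₀)) =
      (RingHom.ker (piT I g₀)).map
        (Algebra.TensorProduct.includeRight : B ⊗[A] SS I g₀ →ₐ[A] B ⊗[A] (B ⊗[A] SS I g₀)) :=
    Algebra.TensorProduct.lTensor_ker _ (piT_surjective I g₀)
  have hsq : RingHom.ker (piT I g₀) ^ 2 = ⊥ :=
    (pow_two _).trans (le_bot_iff.1 (Ideal.mul_le.2 fun a ha b hb =>
      piT_mul_eq_zero I g₀ a b ha hb))
  have hmid : ∀ z : B ⊗[A] SS I g₀,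
      Algebra.TensorProduct.map (AlgHom.id A B) (piT I g₀)
          (Algebra.TensorProduct.map (AlgHom.id A B) (rho I g₀ c hcompat) z) =
        Algebra.TensorProduct.map (AlgHom.id A B) (incL I) (piT I g₀ z) := fun z => by
    induction z using TensorProduct.induction_on with
    | zero => simp only [map_zero]
    | tmul b s => exact congrArg (fun y => b ⊗ₜ[A] y) (rho_piT I g₀ c hcompat s)
    | add p q hp hq => simp only [map_add, hp, hq]
  have hmid' : ∀ z : B ⊗[A] SS I g₀,
      Algebra.TensorProduct.map (AlgHom.id A B) (piT I g₀)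
          (Algebra.TensorProduct.map (AlgHom.id A B)
            (Algebra.TensorProduct.includeRight : SS I g₀ →ₐ[A] B ⊗[A] SS I g₀) z) =
        Algebra.TensorProduct.map (AlgHom.id A B)
          (Algebra.TensorProduct.includeRight : _ →ₐ[A] B ⊗[A] (B ⧸ I.map (algebraMap A B)))
          (piT I g₀ z) := fun z => by
    induction z using TensorProduct.induction_on with
    | zero => simp only [map_zero]
    | tmul b s => rfl
    | add p q hp hq => simp only [map_add, hp, hq]
  have hsurj : Function.Surjective (Algebra.TensorProduct.map (AlgHom.id A B) (piT I g₀)) :=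
    TensorProduct.map_surjective Function.surjective_id (piT_surjective I g₀)
  have hsq' : ∀ x y, Algebra.TensorProduct.map (AlgHom.id A B) (piT I g₀) x = 0 →
      Algebra.TensorProduct.map (AlgHom.id A B) (piT I g₀) y = 0 → x * y = 0 := fun a b ha hb =>
    sqZero_of_map hk hsq (RingHom.mem_ker.mpr ha) (RingHom.mem_ker.mpr hb)
  have key : (Algebra.TensorProduct.map (AlgHom.id A B) (rho I g₀ c hcompat)).comp
        ((rho I g₀ c hcompat).comp (taut I g₀)) =
      (Algebra.TensorProduct.map (AlgHom.id A B) Algebra.TensorProduct.includeRight).comp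
        ((rho I g₀ c hcompat).comp (taut I g₀)) := by
    refine hom_unique c (P := B ⊗[A] (B ⊗[A] SS I g₀)) (C := B ⊗[A] (B ⊗[A] (B ⧸ I.map (algebraMap A B)))) hsurj hsq' ?_ (fun q => ?_) ?_
    · rw [AlgHom.comp_assoc, h1, AlgHom.comp_assoc, h1]
      refine AlgHom.ext fun b => ?_
      exact congrArg (fun y => b ⊗ₜ[A] y) (map_one (rho I g₀ c hcompat))
    · refine (hmid _).trans (Eq.trans ?_ (hmid' _).symm)
      obtain ⟨b, hb⟩ := Ideal.Quotient.mk_surjective (g₀ q)
      have e : piT I g₀ ((rho I g₀ c hcompat).comp (taut I g₀) q) = b ⊗ₜ 1 :=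
        (DFunLike.congr_fun h2 q).trans ((congrArg (incL I) hb.symm).trans (incL_mk I b))
      refine (congrArg _ e).trans (Eq.trans ?_ (congrArg _ e).symm)
      exact congrArg (fun y => b ⊗ₜ[A] y) (map_one (incL I))
    · have e1 : ((Algebra.TensorProduct.map (AlgHom.id A B) (rho I g₀ c hcompat)).comp
          Algebra.TensorProduct.includeRight).comp (taut I g₀) =
          (Algebra.TensorProduct.includeRight : B ⊗[A] SS I g₀ →ₐ[A] B ⊗[A] (B ⊗[A] SS I g₀)).comp
            ((rho I g₀ c hcompat).comp (taut I g₀)) := AlgHom.ext fun q => rfl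
      rw [← c.natural, h3, F.map_comp, c.natural, e1, ← c.natural, h3, F.map_comp, ← c.natural, h3,
        F.map_comp]
      exact congrArg (fun z => F.map z _) (AlgHom.ext fun s => rfl)
  intro n
  obtain ⟨q, rfl⟩ := Ideal.Quotient.mk_surjective n
  exact DFunLike.congr_fun key q

end Coaction

end Groth.Agent.SmoothTorsor
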