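import Groth.Agent.SmoothTorsor.Algebra
import Mathlib.RingTheory.TensorProduct.Quotient
import Mathlib.Algebra.TrivSqZeroExt.Basic

/-!
# The descended neighbourhood has a section
-/

set_option autoImplicit false
set_option backward.isDefEq.respectTransparency false
set_option backward.isDefEq.respectTransparency.types false

universe v u

open TensorProduct

namespace Groth.Agent.SmoothTorsor

variable {A : Type u} [CommRing A] {F : PtFun.{v} A} {I : Ideal A} {B Q : Type u} [CommRing B] [Algebra A B]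
  [CommRing Q] [Algebra A Q] [Algebra B Q] [IsScalarTower A B Q]
  (g₀ : Q →ₐ[B] B ⧸ I.map (algebraMap A B)) (c : Chart F B Q)
  (hcompat : c.η ((incL I).comp (g₀.restrictScalars A)) =
    c.η ((Algebra.TensorProduct.includeRight : _ →ₐ[A] B ⊗[A] (B ⧸ I.map (algebraMap A B))).comp
      (g₀.restrictScalars A)))

/-- The descended neighbourhood. -/
noncomputable abbrev S₀ : Subalgebra A (SS I g₀) :=
  AlgHom.equalizer (rho I g₀ c hcompat) Algebra.TensorProduct.includeRight

/-- The comparison map. -/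
noncomputable def descHom : B ⊗[A] S₀ g₀ c hcompat →ₐ[B] SS I g₀ :=
  Algebra.TensorProduct.lift (Algebra.ofId B _) (S₀ g₀ c hcompat).val fun _ _ => Commute.all _ _

lemma descHom_tmul (b : B) (x : S₀ g₀ c hcompat) :
    descHom g₀ c hcompat (b ⊗ₜ x) = algebraMap B _ b * (x : SS I g₀) :=
  Algebra.TensorProduct.lift_tmul _ _ _ _ _

lemma descHom_bijective [Module.FaithfullyFlat A B] :
    Function.Bijective (descHom g₀ c hcompat) := by
  have hcu : ∀ n, LinearMap.liftBaseChange B (LinearMap.id : SS I g₀ →ₗ[A] SS I g₀)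
      (rhoL I g₀ c hcompat n) = n := fun n => by
    refine Eq.trans ?_ (mult_rho I g₀ c hcompat n)
    show LinearMap.liftBaseChange B LinearMap.id (rho I g₀ c hcompat n) =
      mult I g₀ (rho I g₀ c hcompat n)
    generalize rho I g₀ c hcompat n = z
    induction z using TensorProduct.induction_on with
    | zero => simp only [map_zero]
    | tmul b x =>
      rw [LinearMap.liftBaseChange_tmul, LinearMap.id_apply, Algebra.smul_def]
      exact (Algebra.TensorProduct.lift_tmul (S := A) (IsScalarTower.toAlgHom A B (SS I g₀)) (AlgHom.id A _)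
        (fun _ _ => Commute.all _ _) b x).symm
    | add p q hp hq => simp only [map_add, hp, hq]
  have h := DescLib.ModDesc.bijective_liftBaseChange (rhoL I g₀ c hcompat)
    DescLib.ModDesc.univInjective_of_faithfullyFlat (coassoc I g₀ c hcompat) hcu
  let ρ' := (rhoL I g₀ c hcompat).restrictScalars A
  let e : S₀ g₀ c hcompat ≃ₗ[A] DescLib.ModDesc.inv ρ' :=
    { toFun := fun x => ⟨x.1, (DescLib.ModDesc.mem_inv ρ').2 x.2⟩
      invFun := fun x => ⟨x.1, (DescLib.ModDesc.mem_inv ρ').1 x.2⟩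
      map_add' := fun _ _ => rfl
      map_smul' := fun _ _ => rfl
      left_inv := fun _ => rfl
      right_inv := fun _ => rfl }
  have he : ∀ z, descHom g₀ c hcompat z =
      LinearMap.liftBaseChange B (DescLib.ModDesc.inv ρ').subtype (e.toLinearMap.lTensor B z) := fun z => by
    induction z using TensorProduct.induction_on with
    | zero => simp only [map_zero]
    | tmul b x =>
      rw [descHom_tmul, LinearMap.lTensor_tmul, LinearMap.liftBaseChange_tmul, Algebra.smul_def]
      rfl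
    | add p q hp hq => simp only [map_add, hp, hq]
  rw [show ⇑(descHom g₀ c hcompat) = _ from funext he]
  exact h.comp (e.lTensor B).bijective

/-- The descended neighbourhood gives back the neighbourhood. -/
noncomputable def descEquiv [Module.FaithfullyFlat A B] : B ⊗[A] S₀ g₀ c hcompat ≃ₐ[B] SS I g₀ :=
  AlgEquiv.ofBijective _ (descHom_bijective g₀ c hcompat)

lemma ext_S₀ [Module.FaithfullyFlat A B] {C : Type u} [CommRing C] [Algebra B C] (f f' : SS I g₀ →ₐ[B] C)
    (h : ∀ x : S₀ g₀ c hcompat, f x = f' x) : f = f' := by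
  refine AlgHom.ext fun y => ?_
  obtain ⟨z, rfl⟩ := (descHom_bijective g₀ c hcompat).2 y
  induction z using TensorProduct.induction_on with
  | zero => simp only [map_zero]
  | tmul b x => rw [descHom_tmul, map_mul, map_mul, h, AlgHom.commutes, AlgHom.commutes]
  | add p q hp hq => simp only [map_add, hp, hq]

/-- Extension of a map out of the descended neighbourhood. -/
noncomputable def extendS₀ [Module.FaithfullyFlat A B] {C : Type u} [CommRing C] [Algebra A C] [Algebra B C]
    [IsScalarTower A B C] (G₀ : S₀ g₀ c hcompat →ₐ[A] C) : SS I g₀ →ₐ[B] C :=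
  (Algebra.TensorProduct.lift (Algebra.ofId B C) G₀ fun _ _ => Commute.all _ _).comp
    (descEquiv g₀ c hcompat).symm.toAlgHom

lemma extendS₀_coe [Module.FaithfullyFlat A B] {C : Type u} [CommRing C] [Algebra A C] [Algebra B C]
    [IsScalarTower A B C] (G₀ : S₀ g₀ c hcompat →ₐ[A] C) (x : S₀ g₀ c hcompat) :
    extendS₀ g₀ c hcompat G₀ x = G₀ x := by
  have h : (descEquiv g₀ c hcompat).symm (x : SS I g₀) = (1 : B) ⊗ₜ x := by
    rw [AlgEquiv.symm_apply_eq]
    exact (((descHom_tmul g₀ c hcompat 1 x).trans (by rw [map_one, one_mul]))).symm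
  refine (congrArg (Algebra.TensorProduct.lift (Algebra.ofId B C) G₀ fun _ _ => Commute.all _ _) h).trans ?_
  simp

section Pi

variable (I) (B) in
/-- The inclusion of `A ⧸ I`. -/
noncomputable def iota : (A ⧸ I) →ₐ[A] B ⧸ I.map (algebraMap A B) :=
  Ideal.Quotient.liftₐ I (Algebra.ofId A _) fun a ha => by
    show algebraMap A (B ⧸ I.map (algebraMap A B)) a = 0
    rw [IsScalarTower.algebraMap_apply A B (B ⧸ I.map (algebraMap A B)), Ideal.Quotient.algebraMap_eq,
      Ideal.Quotient.eq_zero_iff_mem]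
    exact Ideal.mem_map_of_mem _ ha

lemma iota_mk (a : A) :
    iota I B (Ideal.Quotient.mk I a) = algebraMap A (B ⧸ I.map (algebraMap A B)) a := rfl

variable (I) in
lemma quotEquiv_iota (a : A ⧸ I) :
    Algebra.TensorProduct.quotIdealMapEquivTensorQuot B I (iota I B a) = (1 : B) ⊗ₜ a := by
  obtain ⟨a, rfl⟩ := Ideal.Quotient.mk_surjective a
  rw [iota_mk, IsScalarTower.algebraMap_apply A B (B ⧸ I.map (algebraMap A B)), AlgEquiv.commutes]
  show algebraMap B (B ⊗[A] (A ⧸ I)) (algebraMap A B a) = _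
  rw [Algebra.TensorProduct.algebraMap_apply, Algebra.algebraMap_self_apply, Algebra.algebraMap_eq_smul_one,
    smul_tmul]
  exact congrArg (fun z => (1 : B) ⊗ₜ[A] z) (Algebra.algebraMap_eq_smul_one (A := A ⧸ I) a).symm

variable (I) in
lemma iota_injective [Module.FaithfullyFlat A B] : Function.Injective (iota I B) := fun a b h => by
  refine Module.FaithfullyFlat.tensorProduct_mk_injective (A := A) (B := B) (A ⧸ I) ?_
  show (1 : B) ⊗ₜ a = (1 : B) ⊗ₜ b
  rw [← quotEquiv_iota, ← quotEquiv_iota, h]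

lemma mem_range_iota [Module.FaithfullyFlat A B] (y : B ⧸ I.map (algebraMap A B))
    (hy : incL I y = (1 : B) ⊗ₜ y) : ∃ a, iota I B a = y := by
  let e := Algebra.TensorProduct.quotIdealMapEquivTensorQuot B I
  obtain ⟨b, rfl⟩ := Ideal.Quotient.mk_surjective y
  obtain ⟨a, ha⟩ := DescLib.amitsur_degree_zero (A := B) (A ⧸ I) (e (Ideal.Quotient.mk _ b)) (by
    have h1 := congrArg (LinearMap.lTensor B (e.toLinearMap.restrictScalars A)) hy.symm
    rw [incL_mk, LinearMap.lTensor_tmul, LinearMap.lTensor_tmul] at h1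
    have h2 : e (Ideal.Quotient.mk _ b) = b ⊗ₜ[A] (1 : A ⧸ I) :=
      Algebra.TensorProduct.quotIdealMapEquivTensorQuot_mk B I b
    refine h1.trans ?_
    rw [h2]
    show b ⊗ₜ[A] e 1 = b ⊗ₜ[A] ((1 : B) ⊗ₜ[A] (1 : A ⧸ I))
    rw [map_one]
    rfl)
  refine ⟨a, e.injective ?_⟩
  rw [quotEquiv_iota]
  exact ha

lemma piS_mem [Module.FaithfullyFlat A B] (x : S₀ g₀ c hcompat) :
    piS I g₀ x ∈ (iota I B).range := by
  obtain ⟨a, ha⟩ := mem_range_iota (piS I g₀ x) (by
    rw [← rho_piT I g₀ c hcompat, show rho I g₀ c hcompat x = (1 : B) ⊗ₜ (x : SS I g₀) from x.2]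
    rfl)
  exact ⟨a, ha⟩

/-- The augmentation of the descended neighbourhood. -/
noncomputable def pi₀ [Module.FaithfullyFlat A B] : S₀ g₀ c hcompat →ₐ[A] A ⧸ I :=
  (AlgEquiv.ofInjective (iota I B) (iota_injective I)).symm.toAlgHom.comp
    ((((piS I g₀).restrictScalars A).comp (S₀ g₀ c hcompat).val).codRestrict _ (piS_mem g₀ c hcompat))

lemma iota_pi₀ [Module.FaithfullyFlat A B] (x : S₀ g₀ c hcompat) :
    iota I B (pi₀ g₀ c hcompat x) = piS I g₀ x := by
  have := (AlgEquiv.ofInjective (iota I B) (iota_injective I)).apply_symm_apply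
    (⟨piS I g₀ x, piS_mem g₀ c hcompat x⟩ : (iota I B).range)
  exact congrArg Subtype.val this

end Pi

/-- The kernel of the augmentation. -/
noncomputable abbrev K₀ [Module.FaithfullyFlat A B] : Submodule A (S₀ g₀ c hcompat) :=
  LinearMap.ker (pi₀ g₀ c hcompat).toLinearMap

lemma mul_eq_zero₀ [Module.FaithfullyFlat A B] (x y : S₀ g₀ c hcompat)
    (hx : pi₀ g₀ c hcompat x = 0) (hy : pi₀ g₀ c hcompat y = 0) : x * y = 0 := by
  refine Subtype.ext (piS_mul_eq_zero I g₀ _ _ ?_ ?_)
  · rw [← iota_pi₀ g₀ c hcompat, hx, map_zero]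
  · rw [← iota_pi₀ g₀ c hcompat, hy, map_zero]

/-- The ideal inside the kernel. -/
noncomputable def jK [Module.FaithfullyFlat A B] : I →ₗ[A] K₀ g₀ c hcompat :=
  ((Algebra.linearMap A (S₀ g₀ c hcompat)).comp I.subtype).codRestrict _ fun a => by
    rw [LinearMap.mem_ker, AlgHom.toLinearMap_apply, LinearMap.comp_apply,
      Algebra.linearMap_apply, AlgHom.commutes]
    exact Ideal.Quotient.eq_zero_iff_mem.mpr a.2

set_option maxHeartbeats 3200000 in
include hcompat in
lemma projective_quot [Module.FaithfullyFlat A B] [Algebra.FormallySmooth B Q]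
    [Module (A ⧸ I) (K₀ g₀ c hcompat ⧸ LinearMap.range (jK g₀ c hcompat))]
    [IsScalarTower A (A ⧸ I) (K₀ g₀ c hcompat ⧸ LinearMap.range (jK g₀ c hcompat))] :
    Module.Projective (A ⧸ I) (K₀ g₀ c hcompat ⧸ LinearMap.range (jK g₀ c hcompat)) := by
  let S := S₀ g₀ c hcompat
  let π := pi₀ g₀ c hcompat
  have hK := mul_eq_zero₀ g₀ c hcompat
  let K := K₀ g₀ c hcompat
  let j : I →ₗ[A] K := jK g₀ c hcompat
  -- projectivity
  let B' := B ⧸ I.map (algebraMap A B)
  letI : Algebra (A ⧸ I) B' := (iota I B).toRingHom.toAlgebra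
  have : IsScalarTower A (A ⧸ I) B' := IsScalarTower.of_algebraMap_eq fun a => (iota_mk (B := B) a).symm
  have : Module.FaithfullyFlat (A ⧸ I) B' :=
    Module.FaithfullyFlat.of_linearEquiv (R := A ⧸ I) (M := (A ⧸ I) ⊗[A] B) (N := B')
      (LinearEquiv.extendScalarsOfSurjective Ideal.Quotient.mk_surjective
        (((Algebra.TensorProduct.quotIdealMapEquivTensorQuot B I).toLinearEquiv.restrictScalars A).trans
          (TensorProduct.comm A B (A ⧸ I))))
  suffices Module.Projective B' (B' ⊗[A ⧸ I] (K ⧸ LinearMap.range j)) from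
    CAlgUI.projective_descent (S := B')
  refine Module.Projective.of_lifting_property fun {M N} _ _ _ _ f g hf => ?_
  letI : Module A M := Module.compHom M (algebraMap A B')
  have : IsScalarTower A B' M := IsScalarTower.of_algebraMap_smul fun _ _ => rfl
  letI : Module A N := Module.compHom N (algebraMap A B')
  have : IsScalarTower A B' N := IsScalarTower.of_algebraMap_smul fun _ _ => rfl
  letI : Module B M := Module.compHom M (algebraMap B B')
  have : IsScalarTower B B' M := IsScalarTower.of_algebraMap_smul fun _ _ => rfl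
  letI : Module B N := Module.compHom N (algebraMap B B')
  have : IsScalarTower B B' N := IsScalarTower.of_algebraMap_smul fun _ _ => rfl
  letI : Module B'ᵐᵒᵖ M := Module.compHom M ((RingHom.id B').fromOpposite mul_comm)
  have : IsCentralScalar B' M := ⟨fun _ _ => rfl⟩
  letI : Module B'ᵐᵒᵖ N := Module.compHom N ((RingHom.id B').fromOpposite mul_comm)
  have : IsCentralScalar B' N := ⟨fun _ _ => rfl⟩
  have : IsScalarTower A B'ᵐᵒᵖ M := ⟨fun a c m => by
    change (a • c.unop) • m = a • (c.unop • m)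
    exact smul_assoc a c.unop m⟩
  have : IsScalarTower A B'ᵐᵒᵖ N := ⟨fun a c m => by
    change (a • c.unop) • m = a • (c.unop • m)
    exact smul_assoc a c.unop m⟩
  have : IsScalarTower B B'ᵐᵒᵖ M := ⟨fun a c m => by
    change (a • c.unop) • m = a • (c.unop • m)
    exact smul_assoc a c.unop m⟩
  have : IsScalarTower B B'ᵐᵒᵖ N := ⟨fun a c m => by
    change (a • c.unop) • m = a • (c.unop • m)
    exact smul_assoc a c.unop m⟩
  have hIA : ∀ a ∈ I, algebraMap A B' a = 0 := fun a ha => by
    rw [← iota_mk, Ideal.Quotient.eq_zero_iff_mem.mpr ha, map_zero]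
  let g₁ : K →ₗ[A] N :=
    { toFun := fun k => g (1 ⊗ₜ (LinearMap.range j).mkQ k)
      map_add' := fun x y => by rw [map_add, tmul_add, map_add]
      map_smul' := fun r x => by
        rw [map_smul, ← algebraMap_smul (A ⧸ I) r ((LinearMap.range j).mkQ x), tmul_smul,
          ← algebraMap_smul B' (algebraMap A (A ⧸ I) r), map_smul, ← IsScalarTower.algebraMap_apply]
        rfl }
  obtain ⟨G₀, hG₀⟩ := MorLib.exists_algHom_extend I π hK
    ((TrivSqZeroExt.inrHom B' N).restrictScalars A ∘ₗ g₁)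
    (fun k k' => TrivSqZeroExt.inr_mul_inr B' _ _)
    (fun a ha k hk => by
      have hk' : (LinearMap.range j).mkQ k = 0 :=
        (Submodule.Quotient.mk_eq_zero _).mpr ⟨⟨a, ha⟩, Subtype.ext hk.symm⟩
      have h0 : g₁ k = 0 := (congrArg (fun z => g ((1 : B') ⊗ₜ[A ⧸ I] z)) hk').trans
        ((congrArg g (tmul_zero (K ⧸ LinearMap.range j) (1 : B'))).trans (map_zero g))
      change TrivSqZeroExt.inr (g₁ k) = _
      rw [h0, TrivSqZeroExt.inr_zero, TrivSqZeroExt.algebraMap_eq_inl', hIA a ha,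
        TrivSqZeroExt.inl_zero])
  have : IsScalarTower A B (TrivSqZeroExt B' N) := IsScalarTower.of_algebraMap_eq fun a => by
    rw [TrivSqZeroExt.algebraMap_eq_inl', TrivSqZeroExt.algebraMap_eq_inl',
      ← IsScalarTower.algebraMap_apply A B B']
  let G : SS I g₀ →ₐ[B] TrivSqZeroExt B' N := extendS₀ g₀ c hcompat G₀
  have hG : ∀ x : S, G x = G₀ x := fun x => extendS₀_coe g₀ c hcompat G₀ x
  let fstN : TrivSqZeroExt B' N →ₐ[B] B' := (TrivSqZeroExt.fstHom B B' N)
  have hfst : fstN.comp G = piS I g₀ := ext_S₀ g₀ c hcompat _ _ fun x => by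
    obtain ⟨a, ha⟩ := Ideal.Quotient.mk_surjective (π x)
    let k : K := ⟨x - algebraMap A S a, by
      rw [LinearMap.mem_ker, AlgHom.toLinearMap_apply, map_sub, AlgHom.commutes, ← ha]
      exact sub_self _⟩
    have ex : algebraMap A S a + (k : S) = x := add_sub_cancel _ _
    have hx : G₀ x = algebraMap A (TrivSqZeroExt B' N) a + TrivSqZeroExt.inr (g₁ k) :=
      (congrArg G₀ ex.symm).trans (hG₀ a k)
    refine ((congrArg fstN ((hG x).trans hx)).trans ?_).trans (iota_pi₀ g₀ c hcompat x)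
    show (algebraMap A (TrivSqZeroExt B' N) a + TrivSqZeroExt.inr (g₁ k)).fst = iota I B (π x)
    rw [TrivSqZeroExt.fst_add, TrivSqZeroExt.algebraMap_eq_inl', TrivSqZeroExt.fst_inl,
      TrivSqZeroExt.fst_inr, add_zero, ← ha, iota_mk]
  let Fm : TrivSqZeroExt B' M →ₐ[B] TrivSqZeroExt B' N := (TrivSqZeroExt.map f).restrictScalars B
  have hF : ∀ c m, Fm (TrivSqZeroExt.inl c + TrivSqZeroExt.inr m) =
      TrivSqZeroExt.inl c + TrivSqZeroExt.inr (f m) := fun c m => by
    simp [Fm]
  have hFs : Function.Surjective Fm := fun z => by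
    obtain ⟨m, hm⟩ := hf z.snd
    exact ⟨TrivSqZeroExt.inl z.fst + TrivSqZeroExt.inr m, by
      rw [hF, hm, TrivSqZeroExt.inl_fst_add_inr_snd_eq]⟩
  have hF1 : ∀ z, (Fm z).fst = z.fst ∧ (Fm z).snd = f z.snd := fun z => by
    have := hF z.fst z.snd
    rw [TrivSqZeroExt.inl_fst_add_inr_snd_eq] at this
    rw [this]
    simp
  have hFn : IsNilpotent (RingHom.ker (Fm : TrivSqZeroExt B' M →+* TrivSqZeroExt B' N)) := by
    refine ⟨2, ?_⟩
    rw [pow_two, Submodule.zero_eq_bot, eq_bot_iff, Ideal.mul_le]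
    intro x hx y hy
    rw [Ideal.mem_bot]
    have hx' : x.fst = 0 := (hF1 x).1.symm.trans (by rw [show Fm x = 0 from hx]; rfl)
    have hy' : y.fst = 0 := (hF1 y).1.symm.trans (by rw [show Fm y = 0 from hy]; rfl)
    refine TrivSqZeroExt.ext ?_ ?_ <;> simp [hx', hy']
  let GQ : Q →ₐ[B] TrivSqZeroExt B' N := G.comp (Ideal.Quotient.mkₐ B _)
  obtain ⟨H, hH⟩ : ∃ H : Q →ₐ[B] TrivSqZeroExt B' M, ∀ x, Fm (H x) = GQ x :=
    ⟨Algebra.FormallySmooth.liftOfSurjective GQ Fm hFs hFn,
      Algebra.FormallySmooth.liftOfSurjective_apply GQ Fm hFs hFn⟩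
  have hH0 : ∀ q ∈ RingHom.ker g₀.toRingHom, (H q).fst = 0 := fun q hq => by
    rw [← (hF1 (H q)).1, hH]
    exact ((DFunLike.congr_fun hfst _).trans (piS_mk I g₀ q)).trans hq
  let Hs : SS I g₀ →ₐ[B] TrivSqZeroExt B' M := Ideal.Quotient.liftₐ _ H fun q hq => by
    rw [pow_two] at hq
    induction hq using Submodule.mul_induction_on' with
    | mem_mul_mem m hm n hn =>
      rw [map_mul]
      refine TrivSqZeroExt.ext ?_ ?_ <;> simp [hH0 m hm, hH0 n hn]
    | add a _ b _ ha hb => rw [map_add, ha, hb, add_zero]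
  have hHs : ∀ y, Fm (Hs y) = G y := fun y => by
    obtain ⟨q, rfl⟩ := Ideal.Quotient.mk_surjective y
    exact hH q
  have : IsScalarTower A B (TrivSqZeroExt B' M) := IsScalarTower.of_algebraMap_eq fun a => by
    rw [TrivSqZeroExt.algebraMap_eq_inl', TrivSqZeroExt.algebraMap_eq_inl',
      ← IsScalarTower.algebraMap_apply A B B']
  let k₁ : K →ₗ[A] M := (TrivSqZeroExt.sndHom B' M).restrictScalars A ∘ₗ
    (((Hs.restrictScalars A).comp S.val).toLinearMap) ∘ₗ K.subtype
  have hk₁ : LinearMap.range j ≤ LinearMap.ker k₁ := by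
    rintro _ ⟨a, rfl⟩
    show ((Hs.restrictScalars A).comp S.val (algebraMap A S (a : A))).snd = 0
    rw [AlgHom.commutes, TrivSqZeroExt.algebraMap_eq_inl', TrivSqZeroExt.snd_inl]
  let k₂ := (((LinearMap.range j).liftQ k₁ hk₁))
  letI : Module (A ⧸ I) M := Module.compHom M (algebraMap (A ⧸ I) B')
  have : IsScalarTower (A ⧸ I) B' M := IsScalarTower.of_algebraMap_smul fun _ _ => rfl
  have : IsScalarTower A (A ⧸ I) M := IsScalarTower.of_algebraMap_smul fun r m =>
    congrArg (fun c : B' => c • m) (IsScalarTower.algebraMap_apply A (A ⧸ I) B' r).symm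
  refine ⟨(k₂.extendScalarsOfSurjective Ideal.Quotient.mk_surjective).liftBaseChange B',
    LinearMap.ext fun x => ?_⟩
  induction x using TensorProduct.induction_on with
  | zero => rw [map_zero, map_zero]
  | add x y hx hy => rw [map_add, map_add, hx, hy]
  | tmul c₁ w =>
    obtain ⟨k, rfl⟩ := Submodule.Quotient.mk_surjective _ w
    rw [LinearMap.comp_apply, LinearMap.liftBaseChange_tmul, map_smul]
    have hgk : f (k₁ k) = g (1 ⊗ₜ Submodule.Quotient.mk k) := by
      show f (Hs ((k : S) : SS I g₀)).snd = _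
      rw [← (hF1 _).2, hHs, hG]
      have h0 := hG₀ 0 k
      rw [map_zero, zero_add, map_zero, zero_add] at h0
      rw [h0]
      exact TrivSqZeroExt.snd_inr B' _
    show c₁ • f (k₁ k) = _
    rw [hgk, ← map_smul, smul_tmul', smul_eq_mul, mul_one]

include hcompat in
/-- Lifts exist which agree on the double product. -/
theorem exists_lift [Module.FaithfullyFlat A B] [Algebra.FormallySmooth B Q] (hI : I ^ 2 = ⊥) :
    ∃ ℓ : Q →ₐ[B] B, (Ideal.Quotient.mkₐ B (I.map (algebraMap A B))).comp ℓ = g₀ ∧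
      c.η ((Algebra.TensorProduct.includeLeft : B →ₐ[A] B ⊗[A] B).comp (ℓ.restrictScalars A)) =
        c.η ((Algebra.TensorProduct.includeRight : B →ₐ[A] B ⊗[A] B).comp (ℓ.restrictScalars A)) := by
  classical
  let S := S₀ g₀ c hcompat
  let π := pi₀ g₀ c hcompat
  have hK : ∀ x y, π x = 0 → π y = 0 → x * y = 0 := fun x y hx hy => by
    refine Subtype.ext (piS_mul_eq_zero I g₀ _ _ ?_ ?_)
    · rw [← iota_pi₀ g₀ c hcompat, hx, map_zero]
    · rw [← iota_pi₀ g₀ c hcompat, hy, map_zero]
  have hIB : I.map (algebraMap A B) ^ 2 = ⊥ := by rw [← Ideal.map_pow, hI, Ideal.map_bot]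
  -- a lift over `B`
  obtain ⟨ℓ₁, hℓ₁⟩ := Algebra.FormallySmooth.comp_surjective B Q (I.map (algebraMap A B)) hIB g₀
  have hℓ₁' : ∀ q ∈ RingHom.ker g₀.toRingHom, ℓ₁ q ∈ I.map (algebraMap A B) := fun q hq => by
    rw [← Ideal.Quotient.eq_zero_iff_mem]
    exact (DFunLike.congr_fun hℓ₁ q).trans hq
  let ℓS : SS I g₀ →ₐ[B] B := Ideal.Quotient.liftₐ _ ℓ₁ fun q hq => by
    have h1 : (RingHom.ker g₀.toRingHom).map ℓ₁.toRingHom ≤ I.map (algebraMap A B) :=
      Ideal.map_le_iff_le_comap.2 hℓ₁'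
    have h2 := Ideal.mem_map_of_mem ℓ₁.toRingHom hq
    rw [Ideal.map_pow] at h2
    have h3 := Ideal.pow_right_mono h1 2 h2
    rwa [hIB, Ideal.mem_bot] at h3
  let K := LinearMap.ker π.toLinearMap
  let j : I →ₗ[A] K := jK g₀ c hcompat
  have hj : Function.Injective j := fun a a' h => by
    refine Subtype.ext ((FaithfulSMul.algebraMap_injective A B) ?_)
    have h1 := congrArg (fun k : K => ℓS ((k : S) : SS I g₀)) h
    simp only [j, jK] at h1
    rw [← (ℓS.restrictScalars A).commutes, ← (ℓS.restrictScalars A).commutes]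
    exact h1
  have htorK : Module.IsTorsionBySet A K (I : Set A) := fun k a => Subtype.ext (by
    rw [Submodule.coe_smul, Algebra.smul_def, Submodule.coe_zero]
    exact hK _ _ ((π.commutes _).trans (Ideal.Quotient.eq_zero_iff_mem.mpr a.2)) k.2)
  have htor : Module.IsTorsionBySet A (K ⧸ LinearMap.range j) (I : Set A) := fun z a => by
    obtain ⟨k, rfl⟩ := Submodule.Quotient.mk_surjective _ z
    rw [← Submodule.Quotient.mk_smul, htorK (x := k) (a := a), Submodule.Quotient.mk_zero]
  letI : Module (A ⧸ I) (K ⧸ LinearMap.range j) := htor.module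
  have : IsScalarTower A (A ⧸ I) (K ⧸ LinearMap.range j) := htor.isScalarTower
  have hproj : Module.Projective (A ⧸ I) (K ⧸ LinearMap.range j) := projective_quot g₀ c hcompat
  -- the section
  obtain ⟨σ, hσ⟩ := MorLib.exists_section_of_projective I htorK (LinearMap.range j).mkQ
    (Submodule.mkQ_surjective _)
  let q := (LinearMap.range j).mkQ
  let d : K →ₗ[A] LinearMap.range j :=
    (LinearMap.id - σ ∘ₗ q).codRestrict _ fun k => by
      rw [← Submodule.Quotient.mk_eq_zero]
      change q (k - σ (q k)) = 0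
      rw [map_sub, hσ, sub_self]
  let ψ : K →ₗ[A] A := I.subtype ∘ₗ (LinearEquiv.ofInjective j hj).symm.toLinearMap ∘ₗ d
  have hψI : ∀ k, ψ k ∈ I := fun k => ((LinearEquiv.ofInjective j hj).symm (d k)).2
  obtain ⟨φ, hφ⟩ := MorLib.exists_algHom_extend I π hK ψ
    (fun k k' => by
      have := Ideal.mul_mem_mul (hψI k) (hψI k')
      rwa [← pow_two, hI, Ideal.mem_bot] at this)
    (fun a ha k hk => by
      have hk' : k = j ⟨a, ha⟩ := Subtype.ext hk
      have h0 : q k = 0 := (Submodule.Quotient.mk_eq_zero _).mpr ⟨⟨a, ha⟩, hk'.symm⟩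
      have : d k = LinearEquiv.ofInjective j hj ⟨a, ha⟩ := Subtype.ext (by
        simp [d, h0, hk'.symm])
      show I.subtype ((LinearEquiv.ofInjective j hj).symm (d k)) = algebraMap A A a
      rw [this, LinearEquiv.symm_apply_apply]
      rfl)
  have hφπ : ∀ x, Ideal.Quotient.mk I (φ x) = π x := fun x => by
    obtain ⟨a, ha⟩ := Ideal.Quotient.mk_surjective (π x)
    let k : K := ⟨x - algebraMap A S a, by
      rw [LinearMap.mem_ker, AlgHom.toLinearMap_apply, map_sub, AlgHom.commutes, ← ha]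
      exact sub_self _⟩
    have := hφ a k
    rw [add_sub_cancel] at this
    rw [this, map_add, Ideal.Quotient.eq_zero_iff_mem.mpr (hψI k), add_zero, ← ha]
    rfl
  let σB : SS I g₀ →ₐ[B] B := extendS₀ g₀ c hcompat ((Algebra.ofId A B).comp φ)
  have hσB : ∀ x : S, σB x = algebraMap A B (φ x) := fun x =>
    extendS₀_coe g₀ c hcompat ((Algebra.ofId A B).comp φ) x
  refine ⟨σB.comp (Ideal.Quotient.mkₐ B _), AlgHom.ext fun q₁ => ?_, ?_⟩
  · have : (Ideal.Quotient.mkₐ B (I.map (algebraMap A B))).comp σB = piS I g₀ :=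
      ext_S₀ g₀ c hcompat _ _ fun x => by
        rw [AlgHom.comp_apply, hσB, ← iota_pi₀ g₀ c hcompat x, ← hφπ, iota_mk]
        rfl
    exact (DFunLike.congr_fun this _).trans (piS_mk I g₀ q₁)
  · let φB : B ⊗[A] SS I g₀ →ₐ[A] B ⊗[A] B :=
      Algebra.TensorProduct.map (AlgHom.id A B) (σB.restrictScalars A)
    have key : ∀ y, φB (rho I g₀ c hcompat y) = σB y ⊗ₜ 1 := fun y => by
      obtain ⟨z, rfl⟩ := (descHom_bijective g₀ c hcompat).2 y
      induction z using TensorProduct.induction_on with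
      | zero => simp only [map_zero, zero_tmul]
      | tmul b x =>
        rw [descHom_tmul, map_mul, rho_algebraMap,
          show rho I g₀ c hcompat x = (1 : B) ⊗ₜ (x : SS I g₀) from x.2, map_mul σB, hσB,
          AlgHom.commutes]
        show φB (b ⊗ₜ 1 * 1 ⊗ₜ (x : SS I g₀)) = _
        rw [Algebra.TensorProduct.tmul_mul_tmul, mul_one, one_mul]
        show b ⊗ₜ[A] σB (x : SS I g₀) = _
        rw [hσB, Algebra.algebraMap_self_apply, mul_comm, ← Algebra.smul_def, smul_tmul,
          ← Algebra.algebraMap_eq_smul_one]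
      | add p p' hp hp' => simp only [map_add, hp, hp', add_tmul]
    obtain ⟨-, -, h3⟩ := rho_spec I g₀ c hcompat
    have e := congrArg (F.map φB) h3
    rw [c.natural, F.map_comp, c.natural] at e
    refine Eq.trans (congrArg c.η ?_) (e.trans (congrArg c.η ?_))
    · exact AlgHom.ext fun y => (key _).symm
    · exact AlgHom.ext fun y => rfl

end Groth.Agent.SmoothTorsor
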