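import Groth.Agent.SmoothTorsor.Descend
import Groth.Agent.AlgSpLib.InfLocal
import Groth.Agent.AlgSpDec.LqfSplitZ
import Groth.Agent.AlgSpDec.BddFibres
import Groth.Agent.MorLib.FormallyEtaleHom

/-!
# Formal smoothness of spaces is etale local
-/

set_option autoImplicit false
set_option backward.isDefEq.respectTransparency false
set_option backward.isDefEq.respectTransparency.types false

universe u

open CategoryTheory CategoryTheory.Limits AlgebraicGeometry Opposite AlgSp TensorProduct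

namespace Groth.Agent.SmoothTorsor

open Groth.Agent.AlgSpLib

variable {S : Scheme.{u}} {F G : Sp S} {f : F ⟶ G} (sq : InfSq f)

/-- `Spec` of an algebra over the big ring, over `S`. -/
noncomputable abbrev pt (P : Type u) [CommRing P] [Algebra sq.A P] : Over S :=
  Over.mk (Spec.map (CommRingCat.ofHom (algebraMap sq.A P)) ≫ sq.str)

/-- The map to the big scheme. -/
noncomputable abbrev ptStr (P : Type u) [CommRing P] [Algebra sq.A P] : pt sq P ⟶ sq.ptT' :=
  Over.homMk (Spec.map (CommRingCat.ofHom (algebraMap sq.A P))) rfl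

variable {P P' P'' : Type u} [CommRing P] [Algebra sq.A P] [CommRing P'] [Algebra sq.A P']
  [CommRing P''] [Algebra sq.A P'']

/-- An algebra map as a map over `S`. -/
noncomputable def ptMap (h : P →ₐ[sq.A] P') : pt sq P' ⟶ pt sq P :=
  Over.homMk (Spec.map (CommRingCat.ofHom h.toRingHom)) (by
    change Spec.map _ ≫ Spec.map _ ≫ sq.str = Spec.map _ ≫ sq.str
    rw [← Category.assoc, ← Spec.map_comp, ← CommRingCat.ofHom_comp]
    exact congrArg (fun r => Spec.map (CommRingCat.ofHom r) ≫ sq.str) h.comp_algebraMap)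

lemma ptMap_str (h : P →ₐ[sq.A] P') : ptMap sq h ≫ ptStr sq P = ptStr sq P' :=
  Over.OverMorphism.ext (by
    change Spec.map _ ≫ Spec.map _ = Spec.map _
    rw [← Spec.map_comp, ← CommRingCat.ofHom_comp]
    exact congrArg (fun r => Spec.map (CommRingCat.ofHom r)) h.comp_algebraMap)

lemma ptMap_comp (h : P →ₐ[sq.A] P') (h' : P' →ₐ[sq.A] P'') :
    ptMap sq h' ≫ ptMap sq h = ptMap sq (h'.comp h) :=
  Over.OverMorphism.ext (Spec.map_comp (CommRingCat.ofHom h.toRingHom) (CommRingCat.ofHom h'.toRingHom)).symm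

/-- The sections over the bottom arrow. -/
noncomputable def ptFun : PtFun.{u + 1} sq.A where
  pt P _ _ := {x : (yon S).obj (pt sq P) ⟶ F // x ≫ f = (yon S).map (ptStr sq P) ≫ sq.bot}
  map h x := ⟨(yon S).map (ptMap sq h) ≫ x.1, by
    rw [Category.assoc, x.2, ← Functor.map_comp_assoc, ptMap_str]⟩
  map_comp h h' x := Subtype.ext (by
    change (yon S).map _ ≫ (yon S).map _ ≫ x.1 = (yon S).map _ ≫ x.1
    rw [← Functor.map_comp_assoc, ptMap_comp])

/-- A chart of the functor gives a lift. -/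
theorem hasLift_of_chartAlg (B Q : Type u) [CommRing B] [CommRing Q] [Algebra sq.A B]
    [Algebra sq.A Q] [Algebra B Q] [IsScalarTower sq.A B Q] [Module.FaithfullyFlat sq.A B]
    [Algebra.Etale sq.A B] [Algebra.FormallySmooth B Q] (x : (ptFun sq).pt Q)
    (hlift : ∀ {P C : Type u} [CommRing P] [Algebra sq.A P] [CommRing C] [Algebra sq.A C]
      (π : P →ₐ[sq.A] C), Function.Surjective π → (∀ a b, π a = 0 → π b = 0 → a * b = 0) →
      ∀ (g₀ : Q →ₐ[sq.A] C) (g : B →ₐ[sq.A] P), π.comp g = g₀.comp (IsScalarTower.toAlgHom sq.A B Q) →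
      ∀ y : (ptFun sq).pt P, (ptFun sq).map π y = (ptFun sq).map g₀ x →
      ∃! h : Q →ₐ[sq.A] P, h.comp (IsScalarTower.toAlgHom sq.A B Q) = g ∧ π.comp h = g₀ ∧
        (ptFun sq).map h x = y)
    (σ : Q →ₐ[B] B)
    (hσ : IsRes sq (ptStr sq B) ((ptFun sq).map (σ.restrictScalars sq.A) x).1) :
    sq.HasLift := by
  let c : Chart (ptFun sq) B Q :=
    { η := fun h => (ptFun sq).map h x
      natural := fun g h => (ptFun sq).map_comp h g x
      lift := hlift }
  let g₀ : Q →ₐ[B] B ⧸ sq.I.map (algebraMap sq.A B) := (Ideal.Quotient.mkₐ B _).comp σ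
  let Bb := B ⊗[sq.A] (B ⧸ sq.I.map (algebraMap sq.A B))
  have hI0 : ∀ a ∈ sq.I, algebraMap sq.A Bb a = 0 := fun a ha => by
    rw [← (Algebra.TensorProduct.includeRight :
      (B ⧸ sq.I.map (algebraMap sq.A B)) →ₐ[sq.A] Bb).commutes a,
      IsScalarTower.algebraMap_apply sq.A B (B ⧸ sq.I.map (algebraMap sq.A B)),
      Ideal.Quotient.algebraMap_eq, Ideal.Quotient.eq_zero_iff_mem.mpr (Ideal.mem_map_of_mem _ ha),
      map_zero]
  let z₁ : pt sq Bb ⟶ sq.ptT :=
    Over.homMk (Spec.map (CommRingCat.ofHom (Ideal.Quotient.lift sq.I (algebraMap sq.A Bb) hI0))) (by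
      change Spec.map _ ≫ Spec.map _ ≫ sq.str = Spec.map _ ≫ sq.str
      rw [← Category.assoc, ← Spec.map_comp, ← CommRingCat.ofHom_comp, Ideal.Quotient.lift_comp_mk])
  have hz₁ : z₁ ≫ sq.j = ptStr sq Bb := Over.OverMorphism.ext (by
    change Spec.map _ ≫ Spec.map _ = Spec.map _
    rw [← Spec.map_comp, ← CommRingCat.ofHom_comp, Ideal.Quotient.lift_comp_mk])
  have hres : ∀ h : B →ₐ[sq.A] Bb,
      ((ptFun sq).map (h.comp (σ.restrictScalars sq.A)) x).1 = (yon S).map z₁ ≫ sq.top := fun h => by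
    rw [← (ptFun sq).map_comp]
    exact hσ (.of Bb) _ (ptMap sq h) z₁ ((ptMap_str sq h).trans hz₁.symm)
  have hcompat : c.η ((incL sq.I).comp (g₀.restrictScalars sq.A)) =
      c.η ((Algebra.TensorProduct.includeRight :
        (B ⧸ sq.I.map (algebraMap sq.A B)) →ₐ[sq.A] Bb).comp (g₀.restrictScalars sq.A)) := by
    have eL : (incL sq.I).comp (g₀.restrictScalars sq.A) =
        ((incL sq.I).comp (Ideal.Quotient.mkₐ sq.A (sq.I.map (algebraMap sq.A B)))).comp
          (σ.restrictScalars sq.A) := AlgHom.ext fun _ => rfl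
    have eR : (Algebra.TensorProduct.includeRight :
          (B ⧸ sq.I.map (algebraMap sq.A B)) →ₐ[sq.A] Bb).comp (g₀.restrictScalars sq.A) =
        ((Algebra.TensorProduct.includeRight :
          (B ⧸ sq.I.map (algebraMap sq.A B)) →ₐ[sq.A] Bb).comp
            (Ideal.Quotient.mkₐ sq.A (sq.I.map (algebraMap sq.A B)))).comp
          (σ.restrictScalars sq.A) := AlgHom.ext fun _ => rfl
    rw [eL, eR]
    exact Subtype.ext ((hres _).trans (hres _).symm)
  obtain ⟨ℓ, hℓ, hagree⟩ := exists_lift g₀ c hcompat sq.sq_zero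
  let y := (ptFun sq).map (ℓ.restrictScalars sq.A) x
  let φ := ptStr sq B
  have hφe : Etale φ.left := (HasRingHomProperty.Spec_iff (P := @Etale)).2
    (RingHom.etale_algebraMap.2 inferInstance)
  have hφs : Surjective φ.left := ⟨PrimeSpectrum.comap_surjective_of_faithfullyFlat⟩
  have hpb := AlgSpDec.isPullback_yon_of_left
    (ptMap sq (Algebra.TensorProduct.includeLeft : B →ₐ[sq.A] B ⊗[sq.A] B))
    (ptMap sq (Algebra.TensorProduct.includeRight : B →ₐ[sq.A] B ⊗[sq.A] B)) φ φ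
    (isPullback_SpecMap_of_isPushout _ _ _ _ (CommRingCat.isPushout_tensorProduct sq.A B B))
  have : Sheaf.IsLocallySurjective ((yon S).map φ) :=
    isLocallySurjective_of_etale_surjective ((repWith_yon_map_iff _ _).2 hφe)
      ((repWith_yon_map_iff _ _).2 hφs)
  obtain ⟨l, hl⟩ := AlgSpDec.exists_desc_of_kernelPair hpb y.1 (by
    have := congrArg Subtype.val hagree
    simp only [c, ← (ptFun sq).map_comp] at this
    exact this)
  refine ⟨l, ?_, hom_ext_of_fppf φ (fppf_of_etale _) _ _ ?_⟩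
  · let p₁ := pullback.fst φ sq.j
    let p₂ := pullback.snd φ sq.j
    have h₂ : IsPullback p₁.left p₂.left φ.left sq.j.left :=
      (IsPullback.of_hasPullback φ sq.j).map (Over.forget S)
    have : Etale p₂.left := MorphismProperty.of_isPullback h₂ hφe
    have : Surjective p₂.left := MorphismProperty.of_isPullback h₂ hφs
    refine hom_ext_of_fppf p₂ (fppf_of_etale _) _ _ ?_
    refine hom_ext_of_affines _ _ fun C p => ?_
    let P₀ : Over.mk (p ≫ (pullback φ sq.j).hom) ⟶ pullback φ sq.j := Over.homMk p rfl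
    have hz : (P₀ ≫ p₁) ≫ φ = (P₀ ≫ p₂) ≫ sq.j := by
      simp only [p₁, p₂, Category.assoc, pullback.condition]
    have hsame : (P₀ ≫ p₁) ≫ ptMap sq (ℓ.restrictScalars sq.A) =
        (P₀ ≫ p₁) ≫ ptMap sq (σ.restrictScalars sq.A) := by
      obtain ⟨ζ, hζ⟩ := Spec.map_surjective ((P₀ ≫ p₁).left : Spec C ⟶ Spec (.of B))
      obtain ⟨ζ₁, hζ₁⟩ := Spec.map_surjective
        ((P₀ ≫ p₂).left : Spec C ⟶ Spec (.of (sq.A ⧸ sq.I)))
      have hk : CommRingCat.ofHom (algebraMap sq.A B) ≫ ζ =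
          CommRingCat.ofHom (Ideal.Quotient.mk sq.I) ≫ ζ₁ := by
        apply Spec.map_injective
        rw [Spec.map_comp, Spec.map_comp, hζ, hζ₁]
        exact congrArg CommaMorphism.left hz
      have hle : sq.I.map (algebraMap sq.A B) ≤ RingHom.ker ζ.hom := by
        refine Ideal.map_le_iff_le_comap.2 fun a ha => ?_
        have := congrArg (fun g => g.hom a) hk
        simpa [Ideal.Quotient.eq_zero_iff_mem.2 ha] using this
      have hq : ∀ q, ζ.hom (ℓ q) = ζ.hom (σ q) := fun q => by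
        rw [← sub_eq_zero, ← map_sub]
        refine hle ?_
        rw [← Ideal.Quotient.eq_zero_iff_mem, map_sub, sub_eq_zero]
        exact DFunLike.congr_fun hℓ q
      refine Over.OverMorphism.ext ?_
      change (P₀ ≫ p₁).left ≫ Spec.map _ = (P₀ ≫ p₁).left ≫ Spec.map _
      rw [← hζ, ← Spec.map_comp, ← Spec.map_comp]
      exact congrArg Spec.map (CommRingCat.hom_ext (RingHom.ext hq))
    have e := hσ C _ (P₀ ≫ p₁) (P₀ ≫ p₂) hz
    calc (yon S).map P₀ ≫ (yon S).map p₂ ≫ (yon S).map sq.j ≫ l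
        = (yon S).map ((P₀ ≫ p₂) ≫ sq.j) ≫ l := by simp only [Functor.map_comp, Category.assoc]
      _ = (yon S).map ((P₀ ≫ p₁) ≫ φ) ≫ l := by rw [hz]
      _ = (yon S).map (P₀ ≫ p₁) ≫ y.1 := by rw [Functor.map_comp, Category.assoc, hl]
      _ = (yon S).map ((P₀ ≫ p₁) ≫ ptMap sq (ℓ.restrictScalars sq.A)) ≫ x.1 :=
          (Functor.map_comp_assoc _ _ _ _).symm
      _ = (yon S).map ((P₀ ≫ p₁) ≫ ptMap sq (σ.restrictScalars sq.A)) ≫ x.1 := by rw [hsame]
      _ = (yon S).map (P₀ ≫ p₁) ≫ (yon S).map (ptMap sq (σ.restrictScalars sq.A)) ≫ x.1 :=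
          Functor.map_comp_assoc _ _ _ _
      _ = (yon S).map (P₀ ≫ p₂) ≫ sq.top := e
      _ = (yon S).map P₀ ≫ (yon S).map p₂ ≫ sq.top := Functor.map_comp_assoc _ _ _ _
  · rw [← Category.assoc, hl, y.2]

end Groth.Agent.SmoothTorsor
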