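import Groth.Agent.SmoothTorsor.Geometry

/-!
# Lifts along square zero quotients of algebras
-/

set_option autoImplicit false
set_option backward.isDefEq.respectTransparency false
set_option backward.isDefEq.respectTransparency.types false

universe u

open CategoryTheory CategoryTheory.Limits AlgebraicGeometry Opposite AlgSp

namespace Groth.Agent.SmoothTorsor

open Groth.Agent.AlgSpLib

variable {S : Scheme.{u}} {F G : Sp S} {f : F ⟶ G} (sq : InfSq f) {K L : Sp S} {p : K ⟶ L}
  {P C : Type u} [CommRing P] [Algebra sq.A P] [CommRing C] [Algebra sq.A C] (π : P →ₐ[sq.A] C)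
  (hπ : Function.Surjective π) (hsq : ∀ a b, π a = 0 → π b = 0 → a * b = 0)

/-- The quotient of the domain by the kernel is the codomain, over `S`. -/
noncomputable def quotPtIso :
    Over.mk (Spec.map (CommRingCat.ofHom (Ideal.Quotient.mk (RingHom.ker π.toRingHom))) ≫
      (pt sq P).hom) ≅ pt sq C :=
  Over.isoMk (Scheme.Spec.mapIso
    ((RingHom.quotientKerEquivOfSurjective (f := π.toRingHom) hπ).toCommRingCatIso.symm.op)) (by
    change Spec.map _ ≫ Spec.map _ ≫ sq.str = Spec.map _ ≫ Spec.map _ ≫ sq.str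
    rw [← Category.assoc, ← Category.assoc, ← Spec.map_comp, ← Spec.map_comp]
    congr 2
    ext a
    change (RingHom.quotientKerEquivOfSurjective (f := π.toRingHom) hπ).symm (algebraMap sq.A C a) =
      Ideal.Quotient.mk _ (algebraMap sq.A P a)
    rw [RingEquiv.symm_apply_eq, RingHom.quotientKerEquivOfSurjective_apply_mk]
    exact (π.commutes a).symm)

lemma quotPtIso_ptMap :
    (quotPtIso sq π hπ).hom ≫ ptMap sq π =
      Over.homMk (Spec.map (CommRingCat.ofHom (Ideal.Quotient.mk (RingHom.ker π.toRingHom)))) rfl := by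
  refine Over.OverMorphism.ext ?_
  change Spec.map _ ≫ Spec.map _ = Spec.map _
  rw [← Spec.map_comp]
  congr 1
  ext a
  change (RingHom.quotientKerEquivOfSurjective (f := π.toRingHom) hπ).symm (π a) =
    Ideal.Quotient.mk _ a
  rw [RingEquiv.symm_apply_eq, RingHom.quotientKerEquivOfSurjective_apply_mk]
  rfl

include hπ hsq in
theorem existsUnique_lift (hp : IsFormallyEtaleMor p) (top : (yon S).obj (pt sq C) ⟶ K)
    (bot : (yon S).obj (pt sq P) ⟶ L) (comm : top ≫ p = (yon S).map (ptMap sq π) ≫ bot) :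
    ∃! l : (yon S).obj (pt sq P) ⟶ K, (yon S).map (ptMap sq π) ≫ l = top ∧ l ≫ p = bot := by
  let e := quotPtIso sq π hπ
  let sq' : InfSq p :=
    { A := P, I := RingHom.ker π.toRingHom
      sq_zero := (pow_two _).trans (le_bot_iff.1 (Ideal.mul_le.2 fun a ha b hb => hsq a b ha hb))
      str := (pt sq P).hom
      top := (yon S).map e.hom ≫ top
      bot := bot
      comm := by
        rw [← quotPtIso_ptMap sq π hπ, Functor.map_comp, Category.assoc, Category.assoc, comm] }
  have key : ∀ l : (yon S).obj (pt sq P) ⟶ K,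
      (yon S).map sq'.j ≫ l = sq'.top ↔ (yon S).map (ptMap sq π) ≫ l = top := fun l => by
    change (yon S).map (Over.homMk _ rfl) ≫ l = (yon S).map e.hom ≫ top ↔ _
    rw [← quotPtIso_ptMap sq π hπ, Functor.map_comp, Category.assoc]
    exact cancel_epi _
  obtain ⟨l, ⟨h1, h2⟩, hu⟩ := hp sq'
  exact ⟨l, ⟨(key l).1 h1, h2⟩, fun l' h => hu l' ⟨(key l').2 h.1, h.2⟩⟩

include hπ hsq in
theorem lift_unique (hp : IsFormallyUnramifiedMor p) (l l' : (yon S).obj (pt sq P) ⟶ K)
    (h₁ : (yon S).map (ptMap sq π) ≫ l = (yon S).map (ptMap sq π) ≫ l') (h₂ : l ≫ p = l' ≫ p) :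
    l = l' := by
  let sq' : InfSq p :=
    { A := P, I := RingHom.ker π.toRingHom
      sq_zero := (pow_two _).trans (le_bot_iff.1 (Ideal.mul_le.2 fun a ha b hb => hsq a b ha hb))
      str := (pt sq P).hom
      top := (yon S).map (quotPtIso sq π hπ).hom ≫ (yon S).map (ptMap sq π) ≫ l
      bot := l ≫ p
      comm := by
        rw [← quotPtIso_ptMap sq π hπ, Functor.map_comp, Category.assoc, Category.assoc, Category.assoc] }
  refine hp sq' l l' ?_ rfl ?_ h₂.symm
  · change (yon S).map (Over.homMk _ rfl) ≫ l = _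
    rw [← quotPtIso_ptMap sq π hπ, Functor.map_comp, Category.assoc]
  · change (yon S).map (Over.homMk _ rfl) ≫ l' = _
    rw [← quotPtIso_ptMap sq π hπ, Functor.map_comp, Category.assoc, ← h₁]

end Groth.Agent.SmoothTorsor
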